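import Cfsg.Agent.Lib.ModRep.Basic
import Cfsg.Agent.Lib.BlocksDefect.Pairing
import Cfsg.Agent.Lib.BlocksCore.DefectZero

/-!
# The scaled inverse of the Cartan matrix of a block

`|D|` times the pairing of irreducible Brauer characters of a block of defect group `D` is
integral at `M`, has rank one modulo `M` and some unit entry.
-/

set_option autoImplicit false
set_option linter.unusedSectionVars false

namespace Cfsg.Agent.ModRep

open BlocksCore BlocksDefect

variable {G : Type*} [Group G] [Finite G] {p : ℕ} {M : Ideal AlgInt} [M.IsPrime]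

/-- The factor turning the normalised pairing into `|D|` times the pairing over the group. -/
noncomputable def scaleFactor (p : ℕ) (B : Set (IrrCharacter G)) (χ : IrrCharacter G) : ℂ :=
  (p : ℂ) ^ blockDefect p B * (χ : G → ℂ) 1 / (Nat.card G : ℂ)

theorem scaleFactor_eq (hM : IsPModular p M) {B : Set (IrrCharacter G)}
    {χ : IrrCharacter G} (hχ : χ ∈ B) :
    ∃ m n : ℕ, ¬ p ∣ m ∧ ¬ p ∣ n ∧
      scaleFactor p B χ = ((p ^ blockHeight p B (χ : G → ℂ) * m : ℕ) : ℂ) * (n : ℂ)⁻¹ := by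
  have := Fintype.ofFinite G
  set a := (Nat.card G).factorization p with ha
  set c := (charDegree (χ : G → ℂ)).factorization p with hc
  have hle : sInf ((fun χ : IrrCharacter G => (charDegree (χ : G → ℂ)).factorization p) '' B) ≤ c :=
    Nat.sInf_le ⟨χ, hχ, rfl⟩
  have hca : c ≤ a := (Nat.factorization_le_iff_dvd (charDegree_pos χ).ne' Nat.card_pos.ne').mpr
    (charDegree_dvd_card χ) p
  have ht : blockDefect p B + c = a + blockHeight p B (χ : G → ℂ) := by
    rw [blockDefect, blockHeight, ← ha, ← hc]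
    omega
  have hn := Nat.ordProj_mul_ordCompl_eq_self (Nat.card G) p
  have hm := Nat.ordProj_mul_ordCompl_eq_self (charDegree (χ : G → ℂ)) p
  rw [← ha] at hn
  rw [← hc] at hm
  refine ⟨charDegree (χ : G → ℂ) / p ^ c, Nat.card G / p ^ a,
    Nat.not_dvd_ordCompl hM.1 (charDegree_pos χ).ne',
    Nat.not_dvd_ordCompl hM.1 Nat.card_pos.ne', ?_⟩
  set n' := Nat.card G / p ^ a
  set m' := charDegree (χ : G → ℂ) / p ^ c
  have hn0 : ((p ^ a * n' : ℕ) : ℂ) ≠ 0 := by
    rw [hn]; exact Nat.cast_ne_zero.mpr Nat.card_pos.ne'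
  push_cast at hn0
  obtain ⟨h1, h2⟩ := mul_ne_zero_iff.mp hn0
  rw [scaleFactor, irr_one_eq, ← hn, ← hm]
  push_cast
  rw [← mul_assoc, ← pow_add, ht, pow_add]
  field_simp [h1, h2]

theorem memLocalRing_scaleFactor (hM : IsPModular p M) {B : Set (IrrCharacter G)}
    {χ : IrrCharacter G} (hχ : χ ∈ B) : MemLocalRing M (scaleFactor p B χ) := by
  obtain ⟨m, n, -, hn, e⟩ := scaleFactor_eq hM hχ
  rw [e]
  exact (localRing M).mul_mem (memLocalRing_natCast _) (memLocalRing_natCast_inv hM hn)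

theorem not_memLocalIdeal_scaleFactor (hM : IsPModular p M) {B : Set (IrrCharacter G)}
    {χ : IrrCharacter G} (hχ : χ ∈ B) (h0 : blockHeight p B (χ : G → ℂ) = 0) :
    ¬ MemLocalIdeal M (scaleFactor p B χ) := by
  obtain ⟨m, n, hm, hn, e⟩ := scaleFactor_eq hM hχ
  intro h
  rw [e, h0, pow_zero, one_mul] at h
  have h2 := memLocalIdeal_mul_right h (memLocalRing_natCast (M := M) n)
  rw [mul_assoc, inv_mul_cancel₀ (Nat.cast_ne_zero.mpr fun hn0 => hn (by simp [hn0])),
    mul_one, memLocalIdeal_natCast_iff hM] at h2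
  exact hm h2

namespace BrauerData

variable (D : BrauerData p M G)

theorem sum_regular_eq [Fintype G] (χ θ : IrrCharacter G) :
    (χ : G → ℂ) 1 * regPair p (χ : G → ℂ) θ =
      (Nat.card G : ℂ) * ∑ i, ∑ j, (D.dec χ i : ℂ) * (D.dec θ j : ℂ) * D.pair i j := by
  have hG : (Nat.card G : ℂ) ≠ 0 := Nat.cast_ne_zero.mpr Nat.card_pos.ne'
  rw [regPair, omega_eq_sum, mul_div_cancel₀ _ (irr_one_ne_zero χ)]
  simp only [pair, finsum_eq_sum_of_fintype, Finset.mul_sum]
  rw [Finset.sum_congr rfl fun i _ => Finset.sum_comm, Finset.sum_comm]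
  refine Finset.sum_congr rfl fun x _ => ?_
  by_cases hx : p ∣ orderOf x
  · simp [regInv, hx, D.apply_singular _ x hx]
  · rw [regInv, if_neg hx, D.apply_regular χ hx,
      D.apply_regular θ (show ¬ p ∣ orderOf x⁻¹ by rwa [orderOf_inv]), Finset.sum_mul_sum,
      Finset.sum_comm]
    refine Finset.sum_congr rfl fun i _ => Finset.sum_congr rfl fun j _ => ?_
    field_simp

/-- `|D|` times the pairing, expanded in the irreducible characters of the block. -/
theorem scaled_pair_eq (hM : IsPModular p M) [Fintype (IrrCharacter G)]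
    {B : Set (IrrCharacter G)} {i j : Fin D.l} {c c' : IrrCharacter G → ℂ}
    (hc : ∀ k, ∑ χ, c χ * (D.dec χ k : ℂ) = if k = i then 1 else 0)
    (hc' : ∀ k, ∑ χ, c' χ * (D.dec χ k : ℂ) = if k = j then 1 else 0) :
    (p : ℂ) ^ blockDefect p B * D.pair i j =
      ∑ χ, ∑ θ, c χ * c' θ * (scaleFactor p B χ * regPair p (χ : G → ℂ) θ) := by
  have := Fintype.ofFinite G
  have hG : (Nat.card G : ℂ) ≠ 0 := Nat.cast_ne_zero.mpr Nat.card_pos.ne'
  have e : ∀ χ θ : IrrCharacter G, scaleFactor p B χ * regPair p (χ : G → ℂ) θ =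
      (p : ℂ) ^ blockDefect p B * ∑ a, ∑ b, (D.dec χ a : ℂ) * (D.dec θ b : ℂ) * D.pair a b := by
    intro χ θ
    rw [scaleFactor, div_mul_eq_mul_div, mul_assoc, D.sum_regular_eq χ θ]
    field_simp
  simp only [e, Finset.mul_sum]
  symm
  calc
    _ = ∑ a, ∑ b, (∑ χ, c χ * (D.dec χ a : ℂ)) * (∑ θ, c' θ * (D.dec θ b : ℂ)) *
        ((p : ℂ) ^ blockDefect p B * D.pair a b) := by
      simp only [Finset.sum_mul, Finset.mul_sum]
      rw [Finset.sum_congr rfl fun χ _ => Finset.sum_comm (s := Finset.univ (α := IrrCharacter G))]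
      rw [Finset.sum_comm]
      refine Finset.sum_congr rfl fun a _ => ?_
      rw [Finset.sum_congr rfl fun χ _ => Finset.sum_comm (s := Finset.univ (α := IrrCharacter G))]
      rw [Finset.sum_comm]
      exact Finset.sum_congr rfl fun b _ => Finset.sum_comm.trans (Finset.sum_congr rfl fun θ _ =>
        Finset.sum_congr rfl fun χ _ => by ring)
    _ = _ := by simp [hc, hc']

/-- Integrality and rank one modulo `M`, with a unit entry. -/
theorem scaled_pair_rank_one (hM : IsPModular p M) [Fintype (IrrCharacter G)]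
    {B : Set (IrrCharacter G)} (hB : IsPBlock M B) :
    ∃ u v : Fin D.l → ℂ, (∀ i, MemLocalRing M (u i)) ∧ (∀ i, MemLocalRing M (v i)) ∧
      (∀ i j, D.blk i = B → D.blk j = B →
        MemLocalRing M ((p : ℂ) ^ blockDefect p B * D.pair i j) ∧
        MemLocalIdeal M ((p : ℂ) ^ blockDefect p B * D.pair i j - u i * v j)) ∧
      ∃ i j, D.blk i = B ∧ D.blk j = B ∧
        ¬ MemLocalIdeal M ((p : ℂ) ^ blockDefect p B * D.pair i j) := by
  classical
  have := Fact.mk hM.1
  have := Fintype.ofFinite G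
  obtain ⟨χ₀, hχ₀, h0⟩ := exists_height_zero hM hB
  choose c hcl hc0 _ hc using fun i => D.exists_dual hM i
  have hmem : ∀ i χ, D.blk i = B → χ ∉ B → c i χ = 0 := fun i χ hi h => hc0 i χ (hi ▸ h)
  let u : Fin D.l → ℂ := fun i => ∑ χ, if χ ∈ B then c i χ * scaleFactor p B χ else 0
  let v : Fin D.l → ℂ := fun j => ∑ θ, c j θ * regPair p (χ₀ : G → ℂ) θ
  have hterm : ∀ i χ θ, D.blk i = B → ∀ j,
      MemLocalRing M (c i χ * c j θ * (scaleFactor p B χ * regPair p (χ : G → ℂ) θ)) ∧
      MemLocalIdeal M (c i χ * c j θ * (scaleFactor p B χ * regPair p (χ : G → ℂ) θ) -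
        (if χ ∈ B then c i χ * scaleFactor p B χ else 0) *
          (c j θ * regPair p (χ₀ : G → ℂ) θ)) := by
    intro i χ θ hi j
    by_cases hχ : χ ∈ B
    · have hs := memLocalRing_scaleFactor (p := p) hM hχ
      refine ⟨(localRing M).mul_mem ((localRing M).mul_mem (hcl i χ) (hcl j θ))
        ((localRing M).mul_mem hs (regPair_memLocalRing χ θ)), ?_⟩
      rw [if_pos hχ, show c i χ * c j θ * (scaleFactor p B χ * regPair p (χ : G → ℂ) θ) -
        c i χ * scaleFactor p B χ * (c j θ * regPair p (χ₀ : G → ℂ) θ) =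
        c i χ * c j θ * scaleFactor p B χ *
          (regPair p (χ : G → ℂ) θ - regPair p (χ₀ : G → ℂ) θ) by ring]
      exact memLocalIdeal_mul_left ((localRing M).mul_mem ((localRing M).mul_mem (hcl i χ)
        (hcl j θ)) hs) (regPair_congr hM hB hχ hχ₀ θ)
    · rw [if_neg hχ, hmem i χ hi hχ]
      simp [memLocalIdeal_zero, show MemLocalRing M (0 : ℂ) from (localRing M).zero_mem]
  have hu : ∀ i, MemLocalRing M (u i) := fun i => memLocalRing_sum fun χ _ => by
    split_ifs with h
    · exact (localRing M).mul_mem (hcl i χ) (memLocalRing_scaleFactor hM h)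
    · exact (localRing M).zero_mem
  have hv : ∀ j, MemLocalRing M (v j) := fun j => memLocalRing_sum fun θ _ =>
    (localRing M).mul_mem (hcl j θ) (regPair_memLocalRing χ₀ θ)
  have hmain : ∀ i j, D.blk i = B →
      MemLocalRing M ((p : ℂ) ^ blockDefect p B * D.pair i j) ∧
      MemLocalIdeal M ((p : ℂ) ^ blockDefect p B * D.pair i j - u i * v j) := by
    intro i j hi
    rw [D.scaled_pair_eq hM (B := B) (hc i) (hc j), Finset.sum_mul_sum]
    simp only [← Finset.sum_sub_distrib]
    exact ⟨memLocalRing_sum fun χ _ => memLocalRing_sum fun θ _ => (hterm i χ θ hi j).1,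
      memLocalIdeal_sum fun χ _ => memLocalIdeal_sum fun θ _ => (hterm i χ θ hi j).2⟩
  refine ⟨u, v, hu, hv, fun i j hi _ => hmain i j hi, ?_⟩
  by_contra hno
  push Not at hno
  have hunit := (regPair_unit_iff hM hB hχ₀ hχ₀).mpr h0
  have hs := not_memLocalIdeal_scaleFactor (p := p) hM hχ₀ h0
  refine (memLocalIdeal_mem_or_mem (memLocalRing_scaleFactor hM hχ₀)
    (regPair_memLocalRing χ₀ χ₀) ?_).elim hs hunit
  have hG : (Nat.card G : ℂ) ≠ 0 := Nat.cast_ne_zero.mpr Nat.card_pos.ne'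
  rw [show scaleFactor p B χ₀ * regPair p (χ₀ : G → ℂ) χ₀ = ∑ i, ∑ j,
      (D.dec χ₀ i : ℂ) * (D.dec χ₀ j : ℂ) * ((p : ℂ) ^ blockDefect p B * D.pair i j) by
    rw [scaleFactor, div_mul_eq_mul_div, mul_assoc, D.sum_regular_eq χ₀ χ₀]
    field_simp
    simp only [Finset.mul_sum]
    exact Finset.sum_congr rfl fun i _ => Finset.sum_congr rfl fun j _ => by ring]
  refine memLocalIdeal_sum fun i _ => memLocalIdeal_sum fun j _ => ?_
  by_cases hi : D.blk i = B
  · by_cases hj : D.blk j = B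
    · exact memLocalIdeal_mul_left ((localRing M).mul_mem (memLocalRing_natCast _)
        (memLocalRing_natCast _)) (hno i j hi hj)
    · rw [D.dec_eq_zero hB hχ₀ hj]; simp [memLocalIdeal_zero]
  · rw [D.dec_eq_zero hB hχ₀ hi]; simp [memLocalIdeal_zero]

end BrauerData

end Cfsg.Agent.ModRep
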