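import Cfsg.Agent.Lib.ModRep.Basic
import Cfsg.Agent.BC86.PRegular

/-!
# Irreducible Brauer characters are integral combinations of restricted irreducible characters

By Brauer's characterization, once Brauer characters of groups of order prime to `p` are known to
be characters.
-/

set_option autoImplicit false
set_option linter.unusedSectionVars false

namespace Cfsg.Agent.ModRep

open BlocksCore BlocksDefect

variable {G : Type*} [Group G] [Finite G] {p : ℕ} {M : Ideal AlgInt} [M.IsPrime]

theorem bchar_comp {H : Type*} [Group H] {Bv : ValuationSubring ℂ} {V : Type*} [AddCommGroup V]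
    [Module (Kf Bv) V] [FiniteDimensional (Kf Bv) V] (ρ : Representation (Kf Bv) G V)
    (f : H →* G) (hf : Function.Injective f) (x : H) :
    bchar p (ρ.comp f : Representation (Kf Bv) H V) x = bchar p ρ (f x) := by
  have ho : orderOf (f x) = orderOf x := orderOf_injective f hf x
  simp only [bchar, ho]
  rfl

namespace BrauerData

variable (D : BrauerData p M G)

/-- In a group of order prime to `p` every irreducible Brauer character is an irreducible
character. -/
theorem exists_irr_of_not_dvd (hM : IsPModular p M) (hG : ¬ p ∣ Nat.card G) (i : Fin D.l) :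
    ∃ χ : IrrCharacter G, D.φ i = (χ : G → ℂ) := by
  classical
  have := Fintype.ofFinite G
  have := finite_irr (G := G)
  have := Fintype.ofFinite (IrrCharacter G)
  have hreg : ∀ x : G, ¬ p ∣ orderOf x := fun x h => hG (h.trans (orderOf_dvd_natCard x))
  -- the sum of the squares of the degrees
  have hsum : ∑ χ : IrrCharacter G, charDegree (χ : G → ℂ) ^ 2 = Nat.card G := by
    have h := CharCore.sum_degree_sq (G := G)
    simp only [irr_one_eq] at h
    convert (by exact_mod_cast h : _ = Nat.card G) using 2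
    exact Finset.ext fun _ => by simp
  have hexp : ∑ χ : IrrCharacter G, charDegree (χ : G → ℂ) ^ 2 =
      ∑ j, ∑ k, D.cartan j k * D.deg j * D.deg k := by
    simp only [D.degree_eq hM, sq, Finset.sum_mul, Finset.mul_sum, cartan_eq]
    rw [Finset.sum_comm]
    refine Finset.sum_congr rfl fun j _ => ?_
    rw [Finset.sum_comm]
    exact Finset.sum_congr rfl fun k _ => Finset.sum_congr rfl fun χ _ => by ring
  have hle : ∀ j, D.deg j ^ 2 ≤ ∑ k, D.cartan j k * D.deg j * D.deg k := fun j =>
    le_trans (by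
      calc D.deg j ^ 2 = 1 * D.deg j * D.deg j := by ring
        _ ≤ D.cartan j j * D.deg j * D.deg j := by
          gcongr
          exact D.cartan_self_pos hM j)
      (Finset.single_le_sum (f := fun k => D.cartan j k * D.deg j * D.deg k)
        (fun _ _ => Nat.zero_le _) (Finset.mem_univ j))
  have heq : ∀ j, D.deg j ^ 2 = ∑ k, D.cartan j k * D.deg j * D.deg k := by
    intro j
    refine ((Finset.sum_eq_sum_iff_of_le fun j _ => hle j).mp ?_) j (Finset.mem_univ j)
    rw [D.sum_deg_sq hG, ← hexp, hsum]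
  have hC : ∀ j k, D.cartan j k = if j = k then 1 else 0 := by
    intro j
    have h1 : D.cartan j j * D.deg j * D.deg j ≤ ∑ k, D.cartan j k * D.deg j * D.deg k :=
      Finset.single_le_sum (f := fun k => D.cartan j k * D.deg j * D.deg k)
        (fun _ _ => Nat.zero_le _) (Finset.mem_univ j)
    have hjj : D.cartan j j = 1 := by
      refine le_antisymm ?_ (D.cartan_self_pos hM j)
      refine Nat.le_of_mul_le_mul_right ?_ (pow_pos (D.deg_pos j) 2)
      rw [one_mul, sq, ← mul_assoc]
      calc D.cartan j j * D.deg j * D.deg j ≤ _ := h1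
        _ = D.deg j * D.deg j := by rw [← heq, sq]
    intro k
    by_cases hjk : j = k
    · rw [if_pos hjk, ← hjk, hjj]
    rw [if_neg hjk]
    have h2 := heq j
    rw [← Finset.add_sum_erase _ _ (Finset.mem_univ j), hjj, one_mul, ← sq] at h2
    have h3 : ∑ k ∈ Finset.univ.erase j, D.cartan j k * D.deg j * D.deg k = 0 := by omega
    have h4 := (Finset.sum_eq_zero_iff.mp h3) k
      (Finset.mem_erase.mpr ⟨Ne.symm hjk, Finset.mem_univ k⟩)
    simpa [(D.deg_pos j).ne', (D.deg_pos k).ne'] using h4
  -- the column has a single entry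
  obtain ⟨χ, hχ⟩ := D.exists_dec_ne_zero hM i
  have hcol := hC i i
  rw [if_pos rfl, D.cartan_eq] at hcol
  have hone : D.dec χ i = 1 := by
    have h1 : D.dec χ i * D.dec χ i ≤ ∑ θ, D.dec θ i * D.dec θ i :=
      Finset.single_le_sum (f := fun θ => D.dec θ i * D.dec θ i) (fun _ _ => Nat.zero_le _)
        (Finset.mem_univ χ)
    rw [hcol] at h1
    nlinarith [Nat.pos_of_ne_zero hχ]
  refine ⟨χ, ?_⟩
  funext x
  rw [D.apply_regular χ (hreg x), Fintype.sum_eq_single i, hone, Nat.cast_one, one_mul]
  intro j hj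
  have h5 := hC i j
  rw [if_neg hj.symm, D.cartan_eq] at h5
  have h6 := (Finset.sum_eq_zero_iff.mp h5) χ (Finset.mem_univ χ)
  rw [hone, one_mul] at h6
  rw [h6, Nat.cast_zero, zero_mul]

end BrauerData

/-- Brauer characters of a group of order prime to `p` are characters. -/
theorem isCharacter_bchar_of_not_dvd (hM : IsPModular p M) (hG : ¬ p ∣ Nat.card G)
    {Bv : ValuationSubring ℂ} (hBv : IsPlace M Bv) {n : ℕ}
    (ρ : Representation (Kf Bv) G (Fin n → Kf Bv)) : IsCharacter G (bchar p ρ) := by
  obtain ⟨D, rfl⟩ := exists_brauerData_of_place (G := G) hM hBv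
  obtain ⟨m, hm⟩ := D.combination n ρ
  rw [hm]
  refine CharCore.isCharacter_sum _ _ fun i _ => ?_
  obtain ⟨χ, hχ⟩ := D.exists_irr_of_not_dvd hM hG i
  rw [hχ]
  exact CharCore.isCharacter_natCast_smul (CharCore.irr_isCharacter χ) _

/-- The `p`-regular factor of an element. -/
noncomputable def regFactor (p : ℕ) (g : G) : G :=
  open scoped Classical in if h : ∃ x, IsPPart p g x then h.choose⁻¹ * g else g

theorem regFactor_eq (hp : p.Prime) {g x y : G} (hg : x * y = g) (hc : Commute x y)
    (hx : ∃ k, orderOf x = p ^ k) (hy : ¬ p ∣ orderOf y) : regFactor p g = y := by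
  have hxp : IsPPart p g x := ⟨y, hg, hc, hx, hy⟩
  have h : ∃ x, IsPPart p g x := ⟨x, hxp⟩
  rw [regFactor, dif_pos h, isPPart_unique hp h.choose_spec hxp, ← hg, inv_mul_cancel_left]

theorem regFactor_of_not_dvd (hp : p.Prime) {g : G} (hg : ¬ p ∣ orderOf g) : regFactor p g = g :=
  regFactor_eq hp (one_mul g) (Commute.one_left g) ⟨0, by simp⟩ hg

theorem regFactor_conj (hp : p.Prime) (g c : G) :
    regFactor p (c * g * c⁻¹) = c * regFactor p g * c⁻¹ := by
  obtain ⟨x, y, hg, hc, hx, hy⟩ := exists_pPart (p := p) hp g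
  rw [regFactor_eq hp hg hc hx hy]
  refine regFactor_eq hp (x := c * x * c⁻¹) (by rw [← hg]; group) ?_ ?_ ?_
  · show c * x * c⁻¹ * (c * y * c⁻¹) = c * y * c⁻¹ * (c * x * c⁻¹)
    calc c * x * c⁻¹ * (c * y * c⁻¹) = c * (x * y) * c⁻¹ := by group
      _ = _ := by rw [hc.eq]; group
  · obtain ⟨k, hk⟩ := hx
    exact ⟨k, by rw [← hk]; exact MulEquiv.orderOf_eq (MulAut.conj c) x⟩
  · rwa [show orderOf (c * y * c⁻¹) = orderOf y from MulEquiv.orderOf_eq (MulAut.conj c) y]

namespace BrauerData

variable (D : BrauerData p M G)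

/-- An irreducible Brauer character, evaluated at the `p`-regular factor, is a generalised
character. -/
theorem isGeneralizedCharacter_ext (hM : IsPModular p M) (i : Fin D.l) :
    IsGeneralizedCharacter G (fun g => D.φ i (regFactor p g)) := by
  have hp := hM.1
  have := Fact.mk hp
  have := Fintype.ofFinite G
  refine CharInd.isGeneralizedCharacter_of_elementary (fun g c => by
    simp only [regFactor_conj hp, D.conj i (regFactor p g) c]) fun E q hq hE => ?_
  have hnil := CharInd.isNilpotent_of_isElementary hq hE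
  have := Fintype.ofFinite E
  let P : Sylow p E := default
  have := Transfer.nilpotent_sylow_normal hnil P
  have hcomm : ∀ u ∈ (P : Subgroup E), ∀ g : E, ¬ p ∣ orderOf g → Commute u g := fun u hu g hg => by
    obtain ⟨k, hk⟩ := BC86.exists_pow_of_mem P.2 hu
    exact Transfer.nilpotent_commute_of_coprime hnil
      (hk ▸ (hp.coprime_iff_not_dvd.mpr hg).pow_left k)
  obtain ⟨K, hKn, hK, hKp, hcard⟩ := BC86.exists_pRegular_subgroup P hcomm
  -- the projection
  have hdec : ∀ g : E, ∃ u ∈ (P : Subgroup E), ∃ k ∈ K, u * k = g := by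
    intro g
    obtain ⟨x, y, hg, -, ⟨k, hk⟩, hy⟩ := exists_pPart (p := p) hp g
    refine ⟨x, ?_, y, (hK y).mpr hy, hg⟩
    have hx : IsPGroup p (Subgroup.zpowers x) := isPGroup_zpowers hk
    obtain ⟨Q, hQ⟩ := hx.exists_le_sylow
    have := Sylow.unique_of_normal P inferInstance
    rw [Subsingleton.elim P Q]
    exact hQ (Subgroup.mem_zpowers x)
  have hval : ∀ u ∈ (P : Subgroup E), ∀ k ∈ K,
      (regFactor p (u * k) : E) = k ∧ regFactor p (((u * k : E)) : G) = (k : G) := by
    intro u hu k hk
    have hy := (hK k).mp hk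
    have hc := hcomm u hu k hy
    obtain ⟨j, hj⟩ := BC86.exists_pow_of_mem P.2 hu
    refine ⟨regFactor_eq hp rfl hc ⟨j, hj⟩ hy, regFactor_eq hp (x := (u : G)) rfl ?_ ⟨j, ?_⟩ ?_⟩
    · exact hc.map E.subtype
    · rw [Subgroup.orderOf_coe]; exact hj
    · rwa [Subgroup.orderOf_coe]
  have hmemK : ∀ g : E, regFactor p g ∈ K := fun g => by
    obtain ⟨u, hu, k, hk, rfl⟩ := hdec g
    rw [(hval u hu k hk).1]; exact hk
  let π : E →* K :=
    { toFun := fun g => ⟨regFactor p g, hmemK g⟩
      map_one' := Subtype.ext (by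
        simpa using (hval 1 (Subgroup.one_mem _) 1 K.one_mem).1)
      map_mul' := fun a b => Subtype.ext (by
        obtain ⟨u, hu, k, hk, rfl⟩ := hdec a
        obtain ⟨u', hu', k', hk', rfl⟩ := hdec b
        show regFactor p (u * k * (u' * k')) = regFactor p (u * k) * regFactor p (u' * k')
        rw [(hval u hu k hk).1, (hval u' hu' k' hk').1,
          ← (hval (u * u') (mul_mem hu hu') (k * k') (mul_mem hk hk')).1]
        congr 1
        rw [mul_assoc u u', ← mul_assoc u' k, (hcomm u' hu' k ((hK k).mp hk)).eq]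
        group) }
  let f : K →* G := E.subtype.comp K.subtype
  have hf : Function.Injective f := E.subtype_injective.comp K.subtype_injective
  have hchar := isCharacter_bchar_of_not_dvd hM hKp D.isPlace
    ((matRep (D.rep i)).comp f : Representation (Kf D.place) K _)
  have heq : (fun e : E => D.φ i (regFactor p (e : G))) =
      fun e => bchar p ((matRep (D.rep i)).comp f : Representation (Kf D.place) K _) (π e) := by
    funext e
    rw [bchar_comp _ f hf, ← D.φ_eq]
    obtain ⟨u, hu, k, hk, rfl⟩ := hdec e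
    rw [(hval u hu k hk).2]
    show D.φ i (k : G) = D.φ i ((regFactor p (u * k) : E) : G)
    rw [(hval u hu k hk).1]
  rw [heq]
  exact CharCore.IsCharacter.isGeneralized (CharCore.isCharacter_comp hchar π)

/-- An irreducible Brauer character is an integral combination of the restricted irreducible
characters of its block. -/
theorem exists_int_dual (hM : IsPModular p M) [Fintype (IrrCharacter G)] (i : Fin D.l) :
    ∃ n : IrrCharacter G → ℤ, (∀ χ, χ ∉ D.blk i → n χ = 0) ∧
      D.φ i = ∑ χ, (n χ : ℂ) • pRegularPart p (χ : G → ℂ) := by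
  classical
  have := Fintype.ofFinite G
  obtain ⟨m, hm⟩ := CharCore.IsGeneralizedCharacter.exists_sum (D.isGeneralizedCharacter_ext hM i)
  have h0 : D.φ i = ∑ χ, (m χ : ℂ) • pRegularPart p (χ : G → ℂ) := by
    funext x
    simp only [Finset.sum_apply, Pi.smul_apply, smul_eq_mul]
    by_cases hx : p ∣ orderOf x
    · simp [D.apply_singular i x hx, pRegularPart_of_dvd _ hx]
    · have h := congrFun hm x
      simp only [regFactor_of_not_dvd hM.1 hx, Finset.sum_apply, Pi.smul_apply, smul_eq_mul] at h
      simp only [pRegularPart_of_not_dvd _ hx]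
      convert h using 2
      exact Finset.ext fun _ => by simp
  refine ⟨fun χ => if χ ∈ D.blk i then m χ else 0, fun χ h => if_neg h, ?_⟩
  have hexp : ∀ c : IrrCharacter G → ℂ, ∑ χ, c χ • pRegularPart p (χ : G → ℂ) =
      ∑ j, (∑ χ, c χ * (D.dec χ j : ℂ)) • D.φ j := fun c => by
    simp only [D.regularPart_eq, Finset.smul_sum, Finset.sum_smul, smul_smul]
    exact Finset.sum_comm
  have hone : ∀ j, ∑ χ, (m χ : ℂ) * (D.dec χ j : ℂ) = if j = i then 1 else 0 := by
    intro j
    have h1 : ∑ j, ((∑ χ, (m χ : ℂ) * (D.dec χ j : ℂ)) - if j = i then 1 else 0) • D.φ j = 0 := by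
      simp only [sub_smul, Finset.sum_sub_distrib, ite_smul, one_smul, zero_smul,
        Finset.sum_ite_eq', Finset.mem_univ, if_true]
      rw [← hexp, ← h0, sub_self]
    exact sub_eq_zero.mp (Fintype.linearIndependent_iff.mp D.linearIndependent _ h1 j)
  rw [hexp]
  have hsum : ∀ j, ∑ χ, ((if χ ∈ D.blk i then m χ else 0 : ℤ) : ℂ) * (D.dec χ j : ℂ) =
      if j = i then 1 else 0 := by
    intro j
    by_cases hj : D.blk j = D.blk i
    · rw [← hone j]
      refine Finset.sum_congr rfl fun χ _ => ?_
      split_ifs with h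
      · rfl
      · rw [Int.cast_zero, zero_mul]
        by_cases hd : D.dec χ j = 0
        · rw [hd, Nat.cast_zero, mul_zero]
        · exact absurd (hj ▸ D.mem_blk χ j hd) h
    · rw [if_neg fun h : j = i => hj (h ▸ rfl)]
      refine Finset.sum_eq_zero fun χ _ => ?_
      split_ifs with h
      · rw [D.dec_eq_zero (D.blk_isPBlock i) h hj, Nat.cast_zero, mul_zero]
      · rw [Int.cast_zero, zero_mul]
  rw [Finset.sum_congr rfl fun j _ => by rw [hsum j]]
  simp

/-- A common divisor of the degrees in a block divides the Brauer degrees. -/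
theorem dvd_deg (hM : IsPModular p M) (i : Fin D.l) {g : ℕ}
    (hg : ∀ χ ∈ D.blk i, g ∣ charDegree ((χ : IrrCharacter G) : G → ℂ)) : g ∣ D.deg i := by
  classical
  have := Fintype.ofFinite G
  have := finite_irr (G := G)
  have := Fintype.ofFinite (IrrCharacter G)
  obtain ⟨n, hn, hφ⟩ := D.exists_int_dual hM i
  have h := congrFun hφ 1
  simp only [D.apply_one, Finset.sum_apply, Pi.smul_apply, smul_eq_mul,
    pRegularPart_of_not_dvd _ (show ¬ p ∣ orderOf (1 : G) by
      rw [orderOf_one]; exact fun h => hM.1.ne_one (Nat.dvd_one.mp h)), irr_one_eq] at h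
  have h' : (D.deg i : ℤ) = ∑ χ, n χ * (charDegree (χ : G → ℂ) : ℤ) := by exact_mod_cast h
  rw [← Int.natCast_dvd_natCast, h']
  refine Finset.dvd_sum fun χ _ => ?_
  by_cases hχ : χ ∈ D.blk i
  · exact Dvd.dvd.mul_left (Int.natCast_dvd_natCast.mpr (hg χ hχ)) _
  · simp [hn χ hχ]

end BrauerData

end Cfsg.Agent.ModRep
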