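import Cfsg.Agent.Lib.ModRep.Cartan
import Cfsg.Agent.Lib.ModRep.Integral

/-!
# The sum of the squares of the degrees in a block

Its `p`-part is `p ^ (2a - d)`, and it is the product of the degrees of the irreducible Brauer
characters with those of the projective characters.
-/

set_option autoImplicit false
set_option linter.unusedSectionVars false

namespace Cfsg.Agent.ModRep

open BlocksCore BlocksDefect

variable {G : Type*} [Group G] [Finite G] {p : ℕ} {M : Ideal AlgInt} [M.IsPrime]

/-- The coefficient of the block idempotent at one has the least possible valuation. -/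
theorem not_memLocalIdeal_blockCoeff_one (hM : IsPModular p M) {B : Set (IrrCharacter G)}
    (hB : IsPBlock M B) :
    ¬ MemLocalIdeal M ((p : ℂ) ^ blockDefect p B * blockCoeff B 1 / (Nat.card G : ℂ)) := by
  classical
  have := Fact.mk hM.1
  have := Fintype.ofFinite G
  have := finite_irr (G := G)
  have := Fintype.ofFinite (IrrCharacter G)
  obtain ⟨D⟩ := exists_brauerData (G := G) hM
  obtain ⟨χ₀, hχ₀, h0⟩ := exists_height_zero hM hB
  have hf := isIntClassFun_blockCoeff hM hB
  set e : G → ℂ := fun x => blockCoeff B x⁻¹ with he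
  have hes : ∀ x, p ∣ orderOf x → e x = 0 := fun x hx =>
    blockCoeff_eq_zero_of_dvd_orderOf hM hB (by rwa [orderOf_inv])
  obtain ⟨c, hc, hcl⟩ := exists_regular_expansion hM (f := e)
    (fun g h => by simp only [he, show (h * g * h⁻¹)⁻¹ = h * g⁻¹ * h⁻¹ by group, hf.1 g⁻¹ h]) hes
  have hcl' := hcl fun x => hf.2 _
  have hexp : ∀ c' : IrrCharacter G → ℂ, ∑ χ, c' χ • pRegularPart p (χ : G → ℂ) =
      ∑ j, (∑ χ, c' χ * (D.dec χ j : ℂ)) • D.φ j := fun c' => by
    simp only [D.regularPart_eq, Finset.smul_sum, Finset.sum_smul, smul_smul]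
    exact Finset.sum_comm
  -- the members outside the block do not contribute
  have hB' : e = ∑ χ, ((Nat.card G : ℂ)⁻¹ * (B.indicator 1 χ * (χ : G → ℂ) 1)) •
      pRegularPart p (χ : G → ℂ) := by
    funext x
    by_cases hx : p ∣ orderOf x
    · simp [hes x hx, pRegularPart_of_dvd _ hx]
    · simp only [he, blockCoeff_eq_sum, inv_inv, Finset.sum_apply, Pi.smul_apply, smul_eq_mul,
        pRegularPart_of_not_dvd _ hx, Finset.mul_sum]
      exact Finset.sum_congr rfl fun χ _ => by ring
  have hoff : ∀ j, D.blk j ≠ B → ∑ χ, c χ * (D.dec χ j : ℂ) = 0 := by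
    intro j hj
    have h1 : ∑ k, ((∑ χ, c χ * (D.dec χ k : ℂ)) -
        ∑ χ, (Nat.card G : ℂ)⁻¹ * (B.indicator 1 χ * (χ : G → ℂ) 1) * (D.dec χ k : ℂ)) • D.φ k = 0 := by
      simp only [sub_smul, Finset.sum_sub_distrib]
      rw [← hexp, ← hexp, ← hc, ← hB', sub_self]
    have h2 := Fintype.linearIndependent_iff.mp D.linearIndependent _ h1 j
    rw [sub_eq_zero] at h2
    rw [h2]
    refine Finset.sum_eq_zero fun χ _ => ?_
    by_cases hχ : χ ∈ B
    · rw [D.dec_eq_zero hB hχ hj, Nat.cast_zero, mul_zero]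
    · rw [Set.indicator_of_notMem hχ]; simp
  have hcB : e = ∑ χ, (if χ ∈ B then c χ else 0) • pRegularPart p (χ : G → ℂ) := by
    rw [hc, hexp, hexp]
    refine Finset.sum_congr rfl fun j _ => ?_
    congr 1
    by_cases hj : D.blk j = B
    · refine Finset.sum_congr rfl fun χ _ => ?_
      split_ifs with h
      · rfl
      · rw [zero_mul]
        by_cases hd : D.dec χ j = 0
        · rw [hd, Nat.cast_zero, mul_zero]
        · exact absurd (hj ▸ D.mem_blk χ j hd) h
    · rw [hoff j hj]
      refine (Finset.sum_eq_zero fun χ _ => ?_).symm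
      split_ifs with h
      · rw [D.dec_eq_zero hB h hj, Nat.cast_zero, mul_zero]
      · rw [zero_mul]
  have hfun : blockCoeff B = ∑ χ, (if χ ∈ B then c χ else 0) • regInv p (χ : G → ℂ) := by
    funext x
    have h := congrFun hcB x⁻¹
    simp only [he, inv_inv, Finset.sum_apply, Pi.smul_apply, smul_eq_mul] at h ⊢
    rw [h]
    refine Finset.sum_congr rfl fun χ _ => ?_
    simp only [regInv, pRegularPart, IsPRegular, orderOf_inv, ite_not]
  have hω : ∑ θ, (if θ ∈ B then c θ else 0) * regPair p (χ₀ : G → ℂ) θ = 1 := by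
    have := omega_blockCoeff B χ₀
    rw [hfun, omega_sum, Set.indicator_of_mem hχ₀] at this
    rw [Pi.one_apply] at this
    rw [← this]
    exact Finset.sum_congr rfl fun θ _ => (omega_smul _ _ _).symm
  intro hI
  refine not_memLocalIdeal_scaleFactor (p := p) hM hχ₀ h0 ?_
  set a₀ := scaleFactor p B χ₀ with ha₀
  set u := regPair p (χ₀ : G → ℂ) χ₀ with hu
  have hsum : ∑ θ, (if θ ∈ B then c θ else 0) * scaleFactor p B θ =
      (p : ℂ) ^ blockDefect p B * blockCoeff B 1 / (Nat.card G : ℂ) := by
    have h := congrFun hcB 1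
    simp only [he, inv_one, Finset.sum_apply, Pi.smul_apply, smul_eq_mul,
      pRegularPart_of_not_dvd _ (show ¬ p ∣ orderOf (1 : G) by
        rw [orderOf_one]; exact fun h => hM.1.ne_one (Nat.dvd_one.mp h))] at h
    rw [h, Finset.mul_sum, Finset.sum_div]
    exact Finset.sum_congr rfl fun θ _ => by rw [scaleFactor]; ring
  have hkey : MemLocalIdeal M (a₀ - u * ∑ θ, (if θ ∈ B then c θ else 0) * scaleFactor p B θ) := by
    rw [show a₀ = ∑ θ, (if θ ∈ B then c θ else 0) * (scaleFactor p B θ * regPair p (θ : G → ℂ) χ₀) by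
      calc a₀ = a₀ * ∑ θ, (if θ ∈ B then c θ else 0) * regPair p (χ₀ : G → ℂ) θ := by
            rw [hω, mul_one]
        _ = _ := by
          rw [Finset.mul_sum]
          refine Finset.sum_congr rfl fun θ _ => ?_
          have h := apply_one_mul_regPair (p := p) χ₀ θ
          simp only [ha₀, scaleFactor]
          linear_combination ((if θ ∈ B then c θ else 0) * (p : ℂ) ^ blockDefect p B /
            (Nat.card G : ℂ)) * h]
    rw [Finset.mul_sum, ← Finset.sum_sub_distrib]
    refine memLocalIdeal_sum fun θ _ => ?_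
    split_ifs with hθ
    · rw [show c θ * (scaleFactor p B θ * regPair p (θ : G → ℂ) χ₀) - u * (c θ * scaleFactor p B θ)
        = c θ * scaleFactor p B θ * (regPair p (θ : G → ℂ) χ₀ - u) by ring]
      exact memLocalIdeal_mul_left ((localRing M).mul_mem (hcl' θ)
        (memLocalRing_scaleFactor hM hθ)) (regPair_congr hM hB hθ hχ₀ χ₀)
    · simp [memLocalIdeal_zero]
  rw [hsum] at hkey
  have h2 := memLocalIdeal_add hkey (memLocalIdeal_mul_left (regPair_memLocalRing (p := p) χ₀ χ₀) hI)
  simpa [hu] using h2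

namespace BrauerData

variable (D : BrauerData p M G)

open scoped Classical in
/-- The sum of the squares of the degrees in a block, through the projective characters. -/
theorem sum_degree_sq_eq (hM : IsPModular p M) [Fintype (IrrCharacter G)]
    {B : Set (IrrCharacter G)} (hB : IsPBlock M B) :
    (∑ χ ∈ Finset.univ.filter (· ∈ B), charDegree ((χ : IrrCharacter G) : G → ℂ) ^ 2) =
      ∑ i ∈ Finset.univ.filter (fun i => D.blk i = B),
        D.deg i * ∑ χ : IrrCharacter G, D.dec χ i * charDegree (χ : G → ℂ) := by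
  have h1 : ∀ χ ∈ Finset.univ.filter (· ∈ B), charDegree ((χ : IrrCharacter G) : G → ℂ) ^ 2 =
      ∑ i ∈ Finset.univ.filter (fun i => D.blk i = B),
        D.deg i * (D.dec χ i * charDegree (χ : G → ℂ)) := by
    intro χ hχ
    rw [sq]
    nth_rw 1 [D.degree_eq hM χ]
    rw [Finset.sum_mul]
    rw [Finset.sum_filter]
    refine Finset.sum_congr rfl fun i _ => ?_
    split_ifs with hi
    · ring
    · rw [D.dec_eq_zero hB (Finset.mem_filter.mp hχ).2 hi]; simp
  rw [Finset.sum_congr rfl h1, Finset.sum_comm]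
  refine Finset.sum_congr rfl fun i hi => ?_
  rw [Finset.mul_sum, Finset.sum_filter]
  refine Finset.sum_congr rfl fun χ _ => ?_
  split_ifs with h
  · rfl
  · by_cases hd : D.dec χ i = 0
    · simp [hd]
    · exact absurd ((Finset.mem_filter.mp hi).2 ▸ D.mem_blk χ i hd) h

end BrauerData

end Cfsg.Agent.ModRep
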