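import Cfsg.Agent.Lib.ModRep.Data
import Cfsg.Agent.Lib.BlocksCore.Ortho

/-!
# Brauer characters: counting, blocks, projective characters and Cartan numbers
-/

set_option autoImplicit false
set_option linter.unusedSectionVars false

namespace Cfsg.Agent.ModRep

open BlocksCore BlocksDefect

variable {G : Type*} [Group G] [Finite G] {p : ℕ} {M : Ideal AlgInt} [M.IsPrime]

namespace BrauerData

variable (D : BrauerData p M G)

theorem memLocalRing (i : Fin D.l) (x : G) : MemLocalRing M (D.φ i x) :=
  memLocalRing_of_isIntegral (D.isIntegral i x)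

theorem linearIndependent : LinearIndependent ℂ D.φ :=
  BlockAlg8.linearIndependent_of_red D.φ D.memLocalRing D.red_linearIndependent

theorem eq_zero_of_sum {c : Fin D.l → ℂ} (h : ∀ x, ¬ p ∣ orderOf x → ∑ i, c i * D.φ i x = 0)
    (i : Fin D.l) : c i = 0 := by
  refine Fintype.linearIndependent_iff.mp D.linearIndependent c (funext fun x => ?_) i
  simp only [Finset.sum_apply, Pi.smul_apply, smul_eq_mul, Pi.zero_apply]
  by_cases hx : p ∣ orderOf x
  · simp [D.apply_singular _ x hx]
  · exact h x hx

/-- The value of an irreducible character at a regular element. -/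
theorem apply_regular (χ : IrrCharacter G) {x : G} (hx : ¬ p ∣ orderOf x) :
    (χ : G → ℂ) x = ∑ i, (D.dec χ i : ℂ) * D.φ i x := by
  have h := congrFun (D.regularPart_eq χ) x
  rw [pRegularPart_of_not_dvd _ hx] at h
  simpa using h

/-- The degree of an irreducible character. -/
theorem degree_eq (hM : IsPModular p M) (χ : IrrCharacter G) :
    charDegree (χ : G → ℂ) = ∑ i, D.dec χ i * D.deg i := by
  have := Fintype.ofFinite G
  have h := D.apply_regular χ (x := 1)
    (by rw [orderOf_one]; exact fun h => hM.1.ne_one (Nat.dvd_one.mp h))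
  rw [irr_one_eq] at h
  simp only [D.apply_one] at h
  exact_mod_cast h

theorem blk_eq_of_dec {χ : IrrCharacter G} {i : Fin D.l} (h : D.dec χ i ≠ 0)
    {B : Set (IrrCharacter G)} (hB : IsPBlock M B) (hχ : χ ∈ B) : D.blk i = B :=
  (isPBlock_eq_of_mem (D.blk_isPBlock i) hB (D.mem_blk χ i h) hχ)

theorem dec_eq_zero {χ : IrrCharacter G} {i : Fin D.l} {B : Set (IrrCharacter G)}
    (hB : IsPBlock M B) (hχ : χ ∈ B) (hi : D.blk i ≠ B) : D.dec χ i = 0 := by
  by_contra h
  exact hi (D.blk_eq_of_dec h hB hχ)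

/-- An irreducible Brauer character is a combination, with coefficients in the local ring, of the
restricted irreducible characters of its block. -/
theorem exists_dual (hM : IsPModular p M) [Fintype (IrrCharacter G)] (i : Fin D.l) :
    ∃ c : IrrCharacter G → ℂ, (∀ χ, MemLocalRing M (c χ)) ∧ (∀ χ, χ ∉ D.blk i → c χ = 0) ∧
      D.φ i = ∑ χ, c χ • pRegularPart p (χ : G → ℂ) ∧
      ∀ j, ∑ χ, c χ * (D.dec χ j : ℂ) = if j = i then 1 else 0 := by
  classical
  obtain ⟨c, hc, hcl⟩ := exists_regular_expansion hM (D.conj i) (D.apply_singular i)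
  have hexp : ∀ c' : IrrCharacter G → ℂ, ∑ χ, c' χ • pRegularPart p (χ : G → ℂ) =
      ∑ j, (∑ χ, c' χ * (D.dec χ j : ℂ)) • D.φ j := fun c' => by
    simp only [D.regularPart_eq, Finset.smul_sum, Finset.sum_smul, smul_smul]
    exact Finset.sum_comm
  have hone : ∀ j, ∑ χ, c χ * (D.dec χ j : ℂ) = if j = i then 1 else 0 := by
    intro j
    have h1 : ∑ j, ((∑ χ, c χ * (D.dec χ j : ℂ)) - if j = i then 1 else 0) • D.φ j = 0 := by
      simp only [sub_smul, Finset.sum_sub_distrib, ite_smul, one_smul, zero_smul,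
        Finset.sum_ite_eq', Finset.mem_univ, if_true]
      rw [← hexp, ← hc, sub_self]
    exact sub_eq_zero.mp (Fintype.linearIndependent_iff.mp D.linearIndependent _ h1 j)
  let c' : IrrCharacter G → ℂ := fun χ => if χ ∈ D.blk i then c χ else 0
  have hsum : ∀ j, ∑ χ, c' χ * (D.dec χ j : ℂ) = if j = i then 1 else 0 := by
    intro j
    by_cases hj : D.blk j = D.blk i
    · rw [← hone j]
      refine Finset.sum_congr rfl fun χ _ => ?_
      simp only [c']
      split_ifs with h
      · rfl
      · rw [zero_mul]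
        by_cases hd : D.dec χ j = 0
        · rw [hd, Nat.cast_zero, mul_zero]
        · exact absurd (hj ▸ D.mem_blk χ j hd) h
    · have hji : j ≠ i := fun h => hj (h ▸ rfl)
      rw [if_neg hji]
      refine Finset.sum_eq_zero fun χ _ => ?_
      simp only [c']
      split_ifs with h
      · rw [D.dec_eq_zero (D.blk_isPBlock i) h hj, Nat.cast_zero, mul_zero]
      · rw [zero_mul]
  refine ⟨c', fun χ => ?_, fun χ h => if_neg h, ?_, hsum⟩
  · simp only [c']
    split_ifs
    · exact hcl (D.memLocalRing i) χ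
    · exact (localRing M).zero_mem
  · rw [hexp]
    simp [hsum]

/-- The decomposition matrix has full column rank. -/
theorem eq_zero_of_dec_mul (hM : IsPModular p M) {v : Fin D.l → ℂ}
    (h : ∀ χ : IrrCharacter G, ∑ i, (D.dec χ i : ℂ) * v i = 0) (i : Fin D.l) : v i = 0 := by
  classical
  have := Fintype.ofFinite G
  have := finite_irr (G := G)
  have := Fintype.ofFinite (IrrCharacter G)
  have := Fintype.ofFinite G
  obtain ⟨c, -, -, -, hc⟩ := D.exists_dual hM i
  calc v i = ∑ j, (∑ χ, c χ * (D.dec χ j : ℂ)) * v j := by simp [hc]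
    _ = ∑ χ, c χ * ∑ j, (D.dec χ j : ℂ) * v j := by
      simp only [Finset.sum_mul, Finset.mul_sum, mul_assoc]
      exact Finset.sum_comm
    _ = 0 := by simp [h]

theorem exists_dec_ne_zero (hM : IsPModular p M) (i : Fin D.l) : ∃ χ, D.dec χ i ≠ 0 := by
  by_contra h
  push Not at h
  have := D.eq_zero_of_dec_mul hM (v := Pi.single i 1) (fun χ => by
    simp [Pi.single_apply, h χ]) i
  simp at this

open scoped Classical in
/-- The number of irreducible Brauer characters in a block is its `p`-regular rank. -/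
theorem blockRank_eq (hM : IsPModular p M) {B : Set (IrrCharacter G)} (hB : IsPBlock M B) :
    blockRank p B = (Finset.univ.filter fun i => D.blk i = B).card := by
  have := Fintype.ofFinite G
  have := finite_irr (G := G)
  have := Fintype.ofFinite (IrrCharacter G)
  have hspan : Submodule.span ℂ ((fun χ : IrrCharacter G => pRegularPart p (χ : G → ℂ)) '' B) =
      Submodule.span ℂ (Set.range fun i : {i // D.blk i = B} => D.φ i) := by
    refine le_antisymm (Submodule.span_le.mpr ?_) (Submodule.span_le.mpr ?_)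
    · rintro _ ⟨χ, hχ, rfl⟩
      show pRegularPart p (χ : G → ℂ) ∈ _
      rw [D.regularPart_eq χ]
      refine Submodule.sum_mem _ fun i _ => ?_
      by_cases hi : D.blk i = B
      · exact Submodule.smul_mem _ _ (Submodule.subset_span ⟨⟨i, hi⟩, rfl⟩)
      · rw [D.dec_eq_zero hB hχ hi]; simp
    · rintro _ ⟨⟨i, hi⟩, rfl⟩
      obtain ⟨c, -, hc0, hc, -⟩ := D.exists_dual hM i
      show D.φ i ∈ _
      rw [hc]
      refine Submodule.sum_mem _ fun χ _ => ?_
      by_cases hχ : χ ∈ B
      · exact Submodule.smul_mem _ _ (Submodule.subset_span ⟨χ, hχ, rfl⟩)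
      · rw [hc0 χ (hi ▸ hχ)]; simp
  rw [blockRank, hspan, finrank_span_eq_card
    (b := fun i : {i // D.blk i = B} => D.φ i)
    (D.linearIndependent.comp _ Subtype.val_injective), Fintype.card_subtype]

/-- The number of irreducible Brauer characters is the number of `p`-regular classes. -/
theorem l_eq (hM : IsPModular p M) :
    D.l = Nat.card {C : ConjClasses G // ¬ p ∣ orderOf (Quotient.out C)} := by
  classical
  have := Fintype.ofFinite G
  have := finite_irr (G := G)
  have := Fintype.ofFinite (IrrCharacter G)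
  have : Finite (ConjClasses G) := Quotient.finite _
  have := Fintype.ofFinite (ConjClasses G)
  let X := {C : ConjClasses G // ¬ p ∣ orderOf (Quotient.out C)}
  let ev : (Fin D.l → ℂ) →ₗ[ℂ] (X → ℂ) :=
    { toFun := fun c C => ∑ i, c i * D.φ i (Quotient.out C.1)
      map_add' := fun a b => funext fun C => by simp [add_mul, Finset.sum_add_distrib]
      map_smul' := fun a c => funext fun C => by simp [mul_assoc, Finset.mul_sum] }
  have hout : ∀ x : G, ∃ w, w * Quotient.out (ConjClasses.mk x) * w⁻¹ = x := fun x =>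
    isConj_iff.mp (ConjClasses.mk_eq_mk_iff_isConj.mp (Quotient.out_eq (ConjClasses.mk x)))
  have hreg : ∀ x : G, orderOf (Quotient.out (ConjClasses.mk x)) = orderOf x := fun x => by
    obtain ⟨w, hw⟩ := hout x
    conv_rhs => rw [← hw]
    exact (MulEquiv.orderOf_eq (MulAut.conj w) _).symm
  have hev : ∀ c x (hx : ¬ p ∣ orderOf x), ev c ⟨ConjClasses.mk x, by rwa [hreg]⟩ =
      ∑ i, c i * D.φ i x := fun c x hx => by
    obtain ⟨w, hw⟩ := hout x
    show ∑ i, c i * D.φ i (Quotient.out (ConjClasses.mk x)) = _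
    refine Finset.sum_congr rfl fun i _ => ?_
    conv_rhs => rw [← hw, D.conj i]
  have hinj : Function.Injective ev := by
    rw [injective_iff_map_eq_zero]
    intro c hc
    funext i
    exact D.eq_zero_of_sum (fun x hx => by rw [← hev c x hx, hc]; rfl) i
  have hsurj : Function.Surjective ev := by
    intro v
    let f : G → ℂ := fun x => if hx : p ∣ orderOf x then 0 else v ⟨ConjClasses.mk x, by rwa [hreg]⟩
    have hf : IsClassFunction G f := fun g h => by
      have e : ConjClasses.mk (h * g * h⁻¹) = ConjClasses.mk g :=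
        ConjClasses.mk_eq_mk_iff_isConj.mpr (isConj_iff.mpr ⟨h⁻¹, by group⟩)
      have eo : orderOf (h * g * h⁻¹) = orderOf g := MulEquiv.orderOf_eq (MulAut.conj h) g
      simp only [f, eo, e]
    obtain ⟨c, hc, -⟩ := exists_regular_expansion hM hf (fun x hx => dif_pos hx)
    refine ⟨fun i => ∑ χ, c χ * (D.dec χ i : ℂ), funext fun C => ?_⟩
    have h := congrFun hc (Quotient.out C.1)
    simp only [Finset.sum_apply, Pi.smul_apply, smul_eq_mul, pRegularPart_of_not_dvd _ C.2] at h
    show ∑ i, (∑ χ, c χ * (D.dec χ i : ℂ)) * D.φ i (Quotient.out C.1) = v C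
    rw [show v C = f (Quotient.out C.1) by
      simp only [f, C.2, dite_false]
      congr
      exact Subtype.ext (Quotient.out_eq C.1).symm, h]
    simp only [D.apply_regular _ C.2, Finset.mul_sum, Finset.sum_mul, mul_assoc]
    exact Finset.sum_comm
  have := (LinearEquiv.ofBijective ev ⟨hinj, hsurj⟩).finrank_eq
  rw [Module.finrank_fintype_fun_eq_card, Module.finrank_fintype_fun_eq_card, Fintype.card_fin]
    at this
  rw [Nat.card_eq_fintype_card]
  exact this

/-! ### Projective characters and Cartan numbers -/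

/-- The character of the projective cover. -/
noncomputable def proj (i : Fin D.l) : G → ℂ :=
  fun x => ∑ᶠ χ : IrrCharacter G, (D.dec χ i : ℂ) * (χ : G → ℂ) x

/-- The Cartan numbers. -/
noncomputable def cartan (i j : Fin D.l) : ℕ :=
  ∑ᶠ χ : IrrCharacter G, D.dec χ i * D.dec χ j

/-- The pairing of two irreducible Brauer characters over the `p`-regular elements. -/
noncomputable def pair (i j : Fin D.l) : ℂ :=
  (Nat.card G : ℂ)⁻¹ * ∑ᶠ x : G, D.φ i x * D.φ j x⁻¹

variable [Fintype (IrrCharacter G)]

theorem proj_eq (i : Fin D.l) (x : G) :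
    D.proj i x = ∑ χ : IrrCharacter G, (D.dec χ i : ℂ) * (χ : G → ℂ) x :=
  finsum_eq_sum_of_fintype _

theorem cartan_eq (i j : Fin D.l) : D.cartan i j = ∑ χ, D.dec χ i * D.dec χ j :=
  finsum_eq_sum_of_fintype _

theorem cartan_symm (i j : Fin D.l) : D.cartan i j = D.cartan j i := by
  simp only [cartan_eq, mul_comm]

theorem cartan_eq_zero (i j : Fin D.l) (h : D.blk i ≠ D.blk j) : D.cartan i j = 0 := by
  rw [cartan_eq]
  refine Finset.sum_eq_zero fun χ _ => ?_
  by_contra hne
  obtain ⟨hi, hj⟩ := mul_ne_zero_iff.mp hne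
  exact h (D.blk_eq_of_dec hi (D.blk_isPBlock j) (D.mem_blk χ j hj))

theorem cartan_self_pos (hM : IsPModular p M) (i : Fin D.l) : 0 < D.cartan i i := by
  obtain ⟨χ, hχ⟩ := D.exists_dec_ne_zero hM i
  rw [cartan_eq]
  exact lt_of_lt_of_le (Nat.mul_pos (Nat.pos_of_ne_zero hχ) (Nat.pos_of_ne_zero hχ))
    (Finset.single_le_sum (f := fun θ => D.dec θ i * D.dec θ i) (fun _ _ => Nat.zero_le _)
      (Finset.mem_univ χ))

theorem proj_regular (i : Fin D.l) {x : G} (hx : ¬ p ∣ orderOf x) :
    D.proj i x = ∑ j, (D.cartan i j : ℂ) * D.φ j x := by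
  simp only [proj_eq, D.apply_regular _ hx, Finset.mul_sum, cartan_eq, Nat.cast_sum, Nat.cast_mul,
    Finset.sum_mul, mul_assoc]
  exact Finset.sum_comm

theorem proj_singular (i : Fin D.l) {x : G} (hx : p ∣ orderOf x) :
    D.proj i x = 0 := by
  classical
  have := Fintype.ofFinite G
  refine D.eq_zero_of_sum (c := fun i => D.proj i x) (fun y hy => ?_) i
  have hy' : ¬ p ∣ orderOf y⁻¹⁻¹ := by rwa [inv_inv]
  have h := sum_irr_mul_inv x y⁻¹
  rw [if_neg (fun hc => by
    obtain ⟨w, hw⟩ := isConj_iff.mp hc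
    refine hy ?_
    rwa [← orderOf_inv, ← hw, ← MulAut.conj_apply, MulEquiv.orderOf_eq])] at h
  simp only [inv_inv, D.apply_regular _ hy, Finset.mul_sum] at h
  rw [← h, Finset.sum_comm]
  simp only [proj_eq, Finset.sum_mul]
  exact Finset.sum_congr rfl fun χ _ => Finset.sum_congr rfl fun j _ => by ring

theorem sum_proj_mul (hM : IsPModular p M) [Fintype G] (i j : Fin D.l) :
    ∑ x, D.proj i x * D.φ j x⁻¹ = if i = j then (Nat.card G : ℂ) else 0 := by
  classical
  obtain ⟨c, -, -, hc, hδ⟩ := D.exists_dual hM j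
  have e : ∀ x, D.proj i x * D.φ j x⁻¹ = ∑ θ, c θ * (D.proj i x * (θ : G → ℂ) x⁻¹) := by
    intro x
    by_cases hx : p ∣ orderOf x
    · simp [D.proj_singular i hx]
    · rw [hc]
      simp only [Finset.sum_apply, Pi.smul_apply, smul_eq_mul,
        pRegularPart_of_not_dvd _ (show ¬ p ∣ orderOf x⁻¹ by rwa [orderOf_inv]), Finset.mul_sum]
      exact Finset.sum_congr rfl fun θ _ => by ring
  rw [Finset.sum_congr rfl fun x _ => e x]
  simp only [proj_eq, Finset.sum_mul, mul_assoc]
  rw [Finset.sum_comm]
  simp only [← Finset.mul_sum]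
  have : ∀ θ : IrrCharacter G, ∑ x, ∑ χ : IrrCharacter G,
      (D.dec χ i : ℂ) * ((χ : G → ℂ) x * (θ : G → ℂ) x⁻¹) = (D.dec θ i : ℂ) * Nat.card G := by
    intro θ
    rw [Finset.sum_comm]
    simp only [← Finset.mul_sum, sum_char_mul_inv, mul_ite, mul_zero, Finset.sum_ite_eq',
      Finset.mem_univ, if_true]
  simp only [this]
  simp only [← mul_assoc]
  rw [← Finset.sum_mul, hδ i, ite_mul, one_mul, zero_mul]

theorem cartan_mul_pair (hM : IsPModular p M) (i j : Fin D.l) :
    ∑ k, (D.cartan i k : ℂ) * D.pair k j = if i = j then 1 else 0 := by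
  classical
  have := Fintype.ofFinite G
  have hG : (Nat.card G : ℂ) ≠ 0 := Nat.cast_ne_zero.mpr Nat.card_pos.ne'
  calc ∑ k, (D.cartan i k : ℂ) * D.pair k j =
      (Nat.card G : ℂ)⁻¹ * ∑ x, D.proj i x * D.φ j x⁻¹ := by
        simp only [pair, finsum_eq_sum_of_fintype, Finset.mul_sum]
        rw [Finset.sum_comm]
        refine Finset.sum_congr rfl fun x _ => ?_
        by_cases hx : p ∣ orderOf x
        · simp [D.proj_singular i hx, D.apply_singular _ x hx]
        · rw [D.proj_regular i hx, Finset.sum_mul, Finset.mul_sum]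
          exact Finset.sum_congr rfl fun k _ => by ring
    _ = _ := by
        rw [D.sum_proj_mul hM]
        split_ifs <;> simp [hG]

theorem isCharacter_proj (i : Fin D.l) : IsCharacter G (D.proj i) := by
  rw [show D.proj i = ∑ χ : IrrCharacter G, D.dec χ i • (χ : G → ℂ) by
    funext x; simp [proj_eq]]
  exact Finset.sum_induction _ (IsCharacter G) (fun _ _ ha hb => CharCore.isCharacter_add ha hb)
    CharCore.isCharacter_zero fun χ _ => CharCore.isCharacter_nsmul (CharCore.irr_isCharacter χ) _

/-- The degree of a projective character is divisible by the order of a Sylow subgroup. -/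
theorem card_dvd_proj_one (hM : IsPModular p M) (i : Fin D.l) {P : Subgroup G}
    (hP : IsPGroup p P) : ∃ m : ℕ, D.proj i 1 = (m : ℂ) * Nat.card P := by
  classical
  have := Fact.mk hM.1
  have := Fintype.ofFinite P
  obtain ⟨n, ρ, hρ⟩ := D.isCharacter_proj i
  let σ : Representation ℂ P (Fin n → ℂ) := ρ.comp P.subtype
  have : Invertible (Fintype.card P : ℂ) :=
    invertibleOfNonzero (Nat.cast_ne_zero.mpr Fintype.card_ne_zero)
  refine ⟨Module.finrank ℂ σ.invariants, ?_⟩
  have h := (Representation.isProj_averageMap σ).trace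
  rw [Representation.averageMap, GroupAlgebra.average, map_smul, map_sum, map_smul, map_sum,
    smul_eq_mul] at h
  simp only [Representation.asAlgebraHom_of] at h
  rw [← h, Fintype.sum_eq_single (1 : P)]
  · have e : LinearMap.trace ℂ _ (σ 1) = D.proj i 1 := by rw [← hρ]; rfl
    rw [e, invOf_eq_inv, ← Nat.card_eq_fintype_card]
    field_simp
  · intro u hu
    rw [show LinearMap.trace ℂ _ (σ u) = D.proj i (u : G) by rw [← hρ]; rfl]
    refine D.proj_singular i ?_
    obtain ⟨k, hk⟩ := IsPGroup.iff_orderOf.mp hP u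
    rw [Subgroup.orderOf_coe, hk]
    refine dvd_pow_self p fun h0 => hu ?_
    rw [h0, pow_zero, orderOf_eq_one_iff] at hk
    exact hk

end BrauerData

end Cfsg.Agent.ModRep
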