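import Cfsg.Agent.Lib.ModRep.Place
import Cfsg.Agent.Lib.BlocksCore.CyclicRank
import Mathlib.LinearAlgebra.Charpoly.ToMatrix
import Mathlib.RepresentationTheory.Basic

/-!
# Brauer characters

The Brauer character of a representation over the residue field of a place of `ℂ`.
-/

set_option autoImplicit false
set_option linter.unusedSectionVars false

namespace Cfsg.Agent.ModRep

open Polynomial BlocksCore BlocksDefect

variable {G : Type*} [Group G] {p : ℕ} {Bv : ValuationSubring ℂ}
variable {V : Type*} [AddCommGroup V] [Module (Kf Bv) V] [FiniteDimensional (Kf Bv) V]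

open scoped Classical in
/-- The Brauer character, extended by zero to the `p`-singular elements. -/
noncomputable def bchar (p : ℕ) (ρ : Representation (Kf Bv) G V) (x : G) : ℂ :=
  if p ∣ orderOf x then 0 else (((ρ x).charpoly.roots).map (lft p Bv)).sum

theorem bchar_of_dvd (ρ : Representation (Kf Bv) G V) {x : G} (h : p ∣ orderOf x) :
    bchar p ρ x = 0 := if_pos h

theorem bchar_of_not_dvd (ρ : Representation (Kf Bv) G V) {x : G} (h : ¬ p ∣ orderOf x) :
    bchar p ρ x = (((ρ x).charpoly.roots).map (lft p Bv)).sum := if_neg h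

theorem bchar_conj (ρ : Representation (Kf Bv) G V) (g x : G) :
    bchar p ρ (g * x * g⁻¹) = bchar p ρ x := by
  have ho : orderOf (g * x * g⁻¹) = orderOf x := MulEquiv.orderOf_eq (MulAut.conj g) x
  let e : V ≃ₗ[Kf Bv] V :=
    LinearEquiv.ofLinear (ρ g) (ρ g⁻¹) (by ext v; simp) (by ext v; simp)
  have he : (ρ (g * x * g⁻¹)).charpoly = (ρ x).charpoly := by
    rw [← LinearEquiv.charpoly_conj e (ρ x)]
    congr 1
    ext v
    simp [LinearEquiv.conj_apply, e]
  simp only [bchar, ho, he]

theorem bchar_equiv {W : Type*} [AddCommGroup W] [Module (Kf Bv) W] [FiniteDimensional (Kf Bv) W]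
    {ρ : Representation (Kf Bv) G V} {σ : Representation (Kf Bv) G W} (e : V ≃ₗ[Kf Bv] W)
    (h : ∀ x v, e (ρ x v) = σ x (e v)) : bchar p ρ = bchar p σ := by
  funext x
  have he : (σ x).charpoly = (ρ x).charpoly := by
    rw [← LinearEquiv.charpoly_conj e (ρ x)]
    congr 1
    ext v
    simp [LinearEquiv.conj_apply, h]
  simp only [bchar, he]

theorem bchar_subsingleton [Subsingleton V] (ρ : Representation (Kf Bv) G V) : bchar p ρ = 0 := by
  funext x
  have h : (ρ x).charpoly.roots = 0 := by
    refine Multiset.card_eq_zero.mp (Nat.le_zero.mp ?_)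
    have := card_roots' (ρ x).charpoly
    rwa [LinearMap.charpoly_natDegree, Module.finrank_zero_of_subsingleton] at this
  simp [bchar, h]

/-- The restriction of a representation to a stable subspace. -/
noncomputable def subRep (ρ : Representation (Kf Bv) G V) (W : Submodule (Kf Bv) V)
    (hW : ∀ g, W ≤ W.comap (ρ g)) : Representation (Kf Bv) G W where
  toFun g := (ρ g).restrict (hW g)
  map_one' := by ext v; simp
  map_mul' g h := by ext v; simp

/-- The representation on the quotient by a stable subspace. -/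
noncomputable def quotRep (ρ : Representation (Kf Bv) G V) (W : Submodule (Kf Bv) V)
    (hW : ∀ g, W ≤ W.comap (ρ g)) : Representation (Kf Bv) G (V ⧸ W) where
  toFun g := W.mapQ W (ρ g) (hW g)
  map_one' := by ext v; simp
  map_mul' g h := by ext v; simp

theorem charpoly_eq_mul {K : Type*} [Field K] [Infinite K] {V : Type*} [AddCommGroup V]
    [Module K V] [FiniteDimensional K V] (f : V →ₗ[K] V) (W : Submodule K V)
    (hW : W ≤ W.comap f) :
    f.charpoly = (f.restrict hW).charpoly * (W.mapQ W f hW).charpoly := by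
  refine Polynomial.funext fun t => ?_
  have ht : W ≤ W.comap (algebraMap K (Module.End K V) t - f) := fun v hv => by
    simpa using W.sub_mem (W.smul_mem t hv) (hW hv)
  rw [eval_mul, LinearMap.eval_charpoly, LinearMap.eval_charpoly, LinearMap.eval_charpoly,
    LinearMap.det_eq_det_mul_det W _ ht]
  congr 2
  ext v
  simp

theorem bchar_eq_add (ρ : Representation (Kf Bv) G V) (W : Submodule (Kf Bv) V)
    (hW : ∀ g, W ≤ W.comap (ρ g)) :
    bchar p ρ = bchar p (subRep ρ W hW) + bchar p (quotRep ρ W hW) := by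
  have : Infinite (Kf Bv) := IsAlgClosed.instInfinite
  funext x
  rw [Pi.add_apply]
  by_cases hx : p ∣ orderOf x
  · rw [bchar_of_dvd _ hx, bchar_of_dvd _ hx, bchar_of_dvd _ hx, add_zero]
  rw [bchar_of_not_dvd _ hx, bchar_of_not_dvd _ hx, bchar_of_not_dvd _ hx,
    charpoly_eq_mul (ρ x) W (hW x), roots_mul (mul_ne_zero
      (LinearMap.charpoly_monic _).ne_zero (LinearMap.charpoly_monic _).ne_zero),
    Multiset.map_add, Multiset.sum_add]
  rfl

/-- The matrix representation as a representation. -/
noncomputable def matRep {K : Type*} [CommRing K] {n : ℕ} (R : G →* Matrix (Fin n) (Fin n) K) :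
    Representation K G (Fin n → K) :=
  (Matrix.toLinAlgEquiv' : Matrix (Fin n) (Fin n) K ≃ₐ[K] _).toAlgHom.toMonoidHom.comp R

theorem matRep_apply {K : Type*} [CommRing K] {n : ℕ} (R : G →* Matrix (Fin n) (Fin n) K) (g : G) :
    matRep R g = Matrix.toLin' (R g) := rfl

section Finite

variable [Finite G]

theorem pow_orderOf_eigen {K : Type*} [Field K] {V : Type*} [AddCommGroup V] [Module K V]
    [FiniteDimensional K V] (ρ : Representation K G V) {x : G} {u : K}
    (hu : u ∈ (ρ x).charpoly.roots) : u ^ orderOf x = 1 := by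
  have h1 : Module.End.HasEigenvalue (ρ x) u := by
    rw [Module.End.hasEigenvalue_iff_isRoot_charpoly]
    exact (mem_roots (LinearMap.charpoly_monic _).ne_zero).mp hu
  obtain ⟨v, hv⟩ := h1.exists_hasEigenvector
  have h2 := hv.pow_apply (orderOf x)
  rw [← map_pow, pow_orderOf_eq_one, map_one, Module.End.one_apply] at h2
  exact (smul_left_injective K hv.2 (h2.symm.trans (one_smul K v).symm))

/-- The roots of unity in `ℂ` cover those in the residue field. -/
theorem exists_residue_eq {u : Kf Bv} {m : ℕ} (hm : 0 < m) (hu : u ^ m = 1) :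
    ∃ z : Bv, z ^ m = 1 ∧ IsLocalRing.residue Bv z = u := by
  have hspl : (X ^ m - 1 : ℂ[X]) = (((X ^ m - 1 : ℂ[X]).roots).map fun a => X - C a).prod :=
    Splits.eq_prod_roots_of_monic (IsAlgClosed.splits _)
      (by simpa using monic_X_pow_sub_C (1 : ℂ) hm.ne')
  have hroot : ∀ a ∈ (X ^ m - 1 : ℂ[X]).roots, a ^ m = 1 := fun a ha => by
    have := (mem_roots'.mp ha).2
    simpa [IsRoot, sub_eq_zero] using this
  let l : Multiset Bv := (X ^ m - 1 : ℂ[X]).roots.attach.map fun a =>
    (⟨a.1, mem_of_pow_eq_one hm (hroot a.1 a.2)⟩ : Bv)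
  have hl : (X ^ m - 1 : Bv[X]) = (l.map fun a => X - C a).prod := by
    apply map_injective Bv.subtype Subtype.val_injective
    rw [Polynomial.map_sub, Polynomial.map_pow, map_X, Polynomial.map_one,
      Polynomial.map_multiset_prod, Multiset.map_map]
    conv_lhs => rw [hspl, ← Multiset.attach_map_val (X ^ m - 1 : ℂ[X]).roots, Multiset.map_map]
    simp only [l, Multiset.map_map]
    refine congrArg Multiset.prod (Multiset.map_congr rfl fun a _ => ?_)
    simp
  have h := congrArg (fun q : Bv[X] => (q.map (IsLocalRing.residue Bv)).eval u) hl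
  simp only [Polynomial.map_sub, Polynomial.map_pow, map_X, Polynomial.map_one, eval_sub, eval_pow,
    eval_X, eval_one, hu, sub_self, Polynomial.map_multiset_prod, Multiset.map_map,
    eval_multiset_prod] at h
  obtain ⟨z, hz, hz0⟩ := Multiset.mem_map.mp (Multiset.prod_eq_zero_iff.mp h.symm)
  simp only [Function.comp_apply, Polynomial.map_sub, map_X, map_C, eval_sub, eval_X, eval_C,
    sub_eq_zero] at hz0
  obtain ⟨a, -, rfl⟩ := Multiset.mem_map.mp hz
  exact ⟨_, Subtype.ext (by simpa using hroot a.1 a.2), hz0.symm⟩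

theorem lft_spec [CharP (Kf Bv) p] (hp : p.Prime) {u : Kf Bv} {m : ℕ} (hm : ¬ p ∣ m)
    (hu : u ^ m = 1) : ∃ z : Bv, z ^ m = 1 ∧ IsLocalRing.residue Bv z = u ∧ lft p Bv u = z := by
  have hm0 : 0 < m := Nat.pos_of_ne_zero fun h => hm (h ▸ dvd_zero p)
  obtain ⟨z, hz, hr⟩ := exists_residue_eq hm0 hu
  exact ⟨z, hz, hr, hr ▸ lft_residue hp hm hz⟩

variable [CharP (Kf Bv) p] (hp : p.Prime)

include hp

theorem isIntegral_bchar (ρ : Representation (Kf Bv) G V) (x : G) :
    IsIntegral ℤ (bchar p ρ x) := by
  by_cases hx : p ∣ orderOf x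
  · rw [bchar_of_dvd _ hx]; exact isIntegral_zero
  rw [bchar_of_not_dvd _ hx]
  refine IsIntegral.multiset_sum fun a ha => ?_
  obtain ⟨u, hu, rfl⟩ := Multiset.mem_map.mp ha
  obtain ⟨z, hz, -, h⟩ := lft_spec hp hx (pow_orderOf_eigen ρ hu)
  rw [h]
  exact IsIntegral.of_pow (orderOf_pos x) (by
    rw [show (z : ℂ) ^ orderOf x = 1 by exact_mod_cast congrArg Subtype.val hz]
    exact isIntegral_one)

/-- The Brauer character reduces to the trace. -/
theorem residue_bchar (ρ : Representation (Kf Bv) G V) {x : G} (hx : ¬ p ∣ orderOf x) :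
    ∃ z : Bv, (z : ℂ) = bchar p ρ x ∧
      IsLocalRing.residue Bv z = LinearMap.trace (Kf Bv) V (ρ x) := by
  classical
  rw [bchar_of_not_dvd _ hx]
  choose f hf hr hl using fun u : {u // u ∈ (ρ x).charpoly.roots} =>
    lft_spec hp hx (pow_orderOf_eigen ρ u.2)
  refine ⟨((ρ x).charpoly.roots.attach.map f).sum, ?_, ?_⟩
  · conv_rhs => rw [← Multiset.attach_map_val ((ρ x).charpoly.roots), Multiset.map_map]
    show Bv.subtype _ = _
    rw [map_multiset_sum, Multiset.map_map]
    exact congrArg Multiset.sum (Multiset.map_congr rfl fun u _ => (hl u).symm)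
  · rw [map_multiset_sum, Multiset.map_map]
    rw [show (IsLocalRing.residue Bv ∘ f) = Subtype.val from funext hr, Multiset.attach_map_val]
    rw [LinearMap.trace_eq_matrix_trace (Kf Bv) (Module.finBasis (Kf Bv) V),
      Matrix.trace_eq_sum_roots_charpoly, LinearMap.charpoly_toMatrix]

theorem bchar_one (ρ : Representation (Kf Bv) G V) :
    bchar p ρ 1 = (Module.finrank (Kf Bv) V : ℂ) := by
  have h1 : lft p Bv (1 : Kf Bv) = 1 := by
    rw [← map_one (IsLocalRing.residue Bv),
      lft_residue hp (m := 1) (fun h => hp.ne_one (Nat.dvd_one.mp h)) (one_pow 1)]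
    rfl
  rw [bchar_of_not_dvd _ (by rw [orderOf_one]; exact fun h => hp.ne_one (Nat.dvd_one.mp h)),
    map_one, LinearMap.charpoly_one]
  rw [show (X - 1 : (Kf Bv)[X]) = X - C 1 by rw [C_1], roots_pow, roots_X_sub_C]
  simp [h1, Multiset.map_nsmul, Multiset.sum_nsmul]

/-- A form over the place has the character as Brauer character. -/
theorem bchar_reduction {n : ℕ} {ρ : Representation ℂ G (Fin n → ℂ)}
    {b : Module.Basis (Fin n) ℂ (Fin n → ℂ)} {R : G →* Matrix (Fin n) (Fin n) Bv}
    (hR : ∀ g, (R g).map Bv.subtype = LinearMap.toMatrix b b (ρ g)) {x : G}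
    (hx : ¬ p ∣ orderOf x) :
    bchar p (matRep ((IsLocalRing.residue Bv).mapMatrix.toMonoidHom.comp R)) x =
      ρ.character x := by
  classical
  have hm0 : 0 < orderOf x := orderOf_pos x
  rw [bchar_of_not_dvd _ hx, matRep_apply, LinearMap.charpoly, ← LinearMap.charpoly_def,
    Matrix.charpoly_toLin']
  show (Multiset.map (lft p Bv) ((R x).map (IsLocalRing.residue Bv)).charpoly.roots).sum = _
  have hC : (R x).charpoly.map Bv.subtype = (ρ x).charpoly := by
    rw [← Matrix.charpoly_map, hR, LinearMap.charpoly_toMatrix]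
  have hspl : (ρ x).charpoly = ((ρ x).charpoly.roots.map fun a => X - C a).prod :=
    Splits.eq_prod_roots_of_monic (IsAlgClosed.splits _) (LinearMap.charpoly_monic _)
  let l : Multiset Bv := (ρ x).charpoly.roots.attach.map fun a =>
    (⟨a.1, mem_of_pow_eq_one hm0 (pow_orderOf_eigen ρ a.2)⟩ : Bv)
  have hl : (R x).charpoly = (l.map fun a => X - C a).prod := by
    apply map_injective Bv.subtype Subtype.val_injective
    rw [hC, Polynomial.map_multiset_prod, Multiset.map_map]
    conv_lhs => rw [hspl, ← Multiset.attach_map_val (ρ x).charpoly.roots, Multiset.map_map]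
    simp only [l, Multiset.map_map]
    refine congrArg Multiset.prod (Multiset.map_congr rfl fun a _ => ?_)
    simp
  rw [Matrix.charpoly_map, hl, Polynomial.map_multiset_prod, Multiset.map_map]
  have e : (Multiset.map (Polynomial.map (IsLocalRing.residue Bv) ∘ fun a => X - C a) l) =
      (l.map (IsLocalRing.residue Bv)).map fun a => X - C a := by
    rw [Multiset.map_map (fun a : Kf Bv => X - C a) (IsLocalRing.residue Bv) l]
    exact Multiset.map_congr rfl fun a _ => by simp
  rw [e, roots_multiset_prod_X_sub_C, Multiset.map_map, Representation.character,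
    LinearMap.trace_eq_matrix_trace ℂ b, Matrix.trace_eq_sum_roots_charpoly,
    LinearMap.charpoly_toMatrix]
  simp only [l, Multiset.map_map]
  conv_rhs => rw [← Multiset.attach_map_val (ρ x).charpoly.roots]
  refine congrArg Multiset.sum (Multiset.map_congr rfl fun a _ => ?_)
  simp only [Function.comp_apply]
  rw [lft_residue hp hx (z := ⟨a.1, _⟩) (Subtype.ext (by simpa using pow_orderOf_eigen ρ a.2))]

end Finite

end Cfsg.Agent.ModRep
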