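import Cfsg.Agent.Lib.ModRep.Simples
import Cfsg.Agent.BlockAlg8.Residue
import Cfsg.Agent.Lib.BlocksDefect.Lifting
import Cfsg.Prelude.Def_BlockRank
import Mathlib.RepresentationTheory.Maschke

/-!
# Irreducible Brauer characters and decomposition numbers

`BrauerData M p G` packages the irreducible Brauer characters, the decomposition numbers and the
partition into blocks; `exists_brauerData` gives one for every modular ideal.
-/

set_option autoImplicit false
set_option linter.unusedSectionVars false

namespace Cfsg.Agent.ModRep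

open BlocksCore BlocksDefect

universe u

/-- Irreducible Brauer characters of `G` with decomposition numbers and blocks. -/
structure BrauerData (p : ℕ) (M : Ideal AlgInt) [M.IsPrime] (G : Type u) [Group G] [Finite G] where
  /-- The number of irreducible Brauer characters. -/
  l : ℕ
  /-- The irreducible Brauer characters, extended by zero. -/
  φ : Fin l → G → ℂ
  /-- The degrees. -/
  deg : Fin l → ℕ
  /-- The decomposition numbers. -/
  dec : IrrCharacter G → Fin l → ℕ
  /-- The block of an irreducible Brauer character. -/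
  blk : Fin l → Set (IrrCharacter G)
  apply_singular : ∀ i x, p ∣ orderOf x → φ i x = 0
  conj : ∀ i, IsClassFunction G (φ i)
  isIntegral : ∀ i x, IsIntegral ℤ (φ i x)
  deg_pos : ∀ i, 0 < deg i
  apply_one : ∀ i, φ i 1 = deg i
  red_linearIndependent : LinearIndependent (Res M) fun i x => red M (φ i x)
  regularPart_eq : ∀ χ : IrrCharacter G, pRegularPart p (χ : G → ℂ) = ∑ i, (dec χ i : ℂ) • φ i
  blk_isPBlock : ∀ i, IsPBlock M (blk i)
  mem_blk : ∀ χ i, dec χ i ≠ 0 → χ ∈ blk i
  /-- The place used for the reduction. -/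
  place : ValuationSubring ℂ
  isPlace : IsPlace M place
  /-- The simple representations. -/
  rep : ∀ i, G →* Matrix (Fin (deg i)) (Fin (deg i)) (Kf place)
  φ_eq : ∀ i, φ i = bchar p (matRep (rep i))
  sum_deg_sq : ¬ p ∣ Nat.card G → ∑ i, deg i ^ 2 = Nat.card G
  combination : ∀ (n : ℕ) (ρ : Representation (Kf place) G (Fin n → Kf place)),
    ∃ m : Fin l → ℕ, bchar p ρ = ∑ i, (m i : ℂ) • φ i

variable {G : Type u} [Group G] [Finite G] {p : ℕ} {M : Ideal AlgInt}

theorem isClassFunction_pRegularPart {f : G → ℂ} (hf : IsClassFunction G f) :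
    IsClassFunction G (pRegularPart p f) := fun g h => by
  by_cases hg : p ∣ orderOf g <;>
    simp [pRegularPart, IsPRegular, hf g h, show orderOf (h * g * h⁻¹) = orderOf g from
      MulEquiv.orderOf_eq (MulAut.conj h) g, hg]

theorem pRegularPart_of_dvd (f : G → ℂ) {x : G} (h : p ∣ orderOf x) : pRegularPart p f x = 0 :=
  if_neg fun h' => h' h

theorem pRegularPart_of_not_dvd (f : G → ℂ) {x : G} (h : ¬ p ∣ orderOf x) :
    pRegularPart p f x = f x := if_pos h

/-- A class function on the `p`-regular elements is a combination of restricted irreducible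
characters, with coefficients in the local ring when its values are there. -/
theorem exists_regular_expansion (hM : IsPModular p M) [Fintype (IrrCharacter G)] {f : G → ℂ}
    (hf : IsClassFunction G f) (hs : ∀ x, p ∣ orderOf x → f x = 0) :
    ∃ c : IrrCharacter G → ℂ, f = ∑ χ, c χ • pRegularPart p (χ : G → ℂ) ∧
      ((∀ x, MemLocalRing M (f x)) → ∀ χ, MemLocalRing M (c χ)) := by
  classical
  have := isPrime hM
  have := Fact.mk hM.1
  have := Fintype.ofFinite G
  have : Finite (ConjClasses G) := Quotient.finite _
  have := Fintype.ofFinite (ConjClasses G)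
  have hex : ∀ C : ConjClasses G, ∃ c : IrrCharacter G → ℂ, (∀ θ, MemLocalRing M (c θ)) ∧
      (¬ p ∣ orderOf (Quotient.out C) → ∀ x, ¬ p ∣ orderOf x →
        classInd (Quotient.out C) x = ∑ θ, c θ * (θ : G → ℂ) x) := by
    intro C
    by_cases hC : p ∣ orderOf (Quotient.out C)
    · exact ⟨0, fun θ => (localRing M).zero_mem, fun h => absurd hC h⟩
    · obtain ⟨c, hc, h⟩ := exists_lift_classInd hM hC
      exact ⟨c, hc, fun _ => h⟩
  choose c hc hcx using hex
  refine ⟨fun θ => ∑ C : ConjClasses G, f (Quotient.out C) * c C θ, funext fun x => ?_,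
    fun hfi θ => memLocalRing_sum fun C _ => (localRing M).mul_mem (hfi _) (hc C θ)⟩
  simp only [Finset.sum_apply, Pi.smul_apply, smul_eq_mul]
  by_cases hx : p ∣ orderOf x
  · simp [hs x hx, pRegularPart_of_dvd _ hx]
  simp only [pRegularPart_of_not_dvd _ hx, Finset.sum_mul]
  rw [Finset.sum_comm]
  calc f x = ∑ C : ConjClasses G, f (Quotient.out C) * classInd (Quotient.out C) x := by
        rw [Fintype.sum_eq_single (ConjClasses.mk x)]
        · have h : IsConj (Quotient.out (ConjClasses.mk x)) x :=
            ConjClasses.mk_eq_mk_iff_isConj.mp (Quotient.out_eq _)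
          rw [classInd_apply_of_isConj h, mul_one]
          obtain ⟨w, hw⟩ := isConj_iff.mp h
          conv_lhs => rw [← hw, hf]
        · intro C hC
          rw [classInd_apply_of_not_isConj, mul_zero]
          intro h
          exact hC ((Quotient.out_eq C).symm.trans (ConjClasses.mk_eq_mk_iff_isConj.mpr h))
    _ = _ := by
        refine Finset.sum_congr rfl fun C _ => ?_
        by_cases hC : p ∣ orderOf (Quotient.out C)
        · simp [hs _ hC]
        · rw [hcx C hC x hx, Finset.mul_sum]
          exact Finset.sum_congr rfl fun θ _ => (mul_assoc _ _ _).symm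

theorem exists_brauerData_of_place (hM : IsPModular p M) [M.IsPrime] {Bv : ValuationSubring ℂ}
    (hBv : IsPlace M Bv) : ∃ D : BrauerData p M G, D.place = Bv := by
  classical
  have hp := hM.1
  have := Fact.mk hp
  have := hM.2.1
  have := hBv.charP hM
  have := Fintype.ofFinite G
  have := finite_irr (G := G)
  have := Fintype.ofFinite (IrrCharacter G)
  obtain ⟨r, d, S, hd, hsq, hind, hall⟩ := exists_simples.{u, 0} G Bv p
  set φ : Fin r → G → ℂ := fun i => bchar p (matRep (S i)) with hφ
  have hint : ∀ i x, IsIntegral ℤ (φ i x) := fun i x => isIntegral_bchar hp _ x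
  have hloc : ∀ i x, MemLocalRing M (φ i x) := fun i x => memLocalRing_of_isIntegral (hint i x)
  have hred : ∀ i x, ¬ p ∣ orderOf x → hBv.iota (red M (φ i x)) = (S i x).trace := by
    intro i x hx
    obtain ⟨z, hz, hr⟩ := residue_bchar hp (matRep (S i)) hx
    rw [hBv.iota_red (hloc i x), show (⟨φ i x, _⟩ : Bv) = z from Subtype.ext hz.symm, hr,
      matRep_apply, Matrix.trace_toLin'_eq]
  have hli : LinearIndependent (Res M) fun i x => red M (φ i x) := by
    rw [Fintype.linearIndependent_iff]
    intro c hc i
    have h0 : (fun i => hBv.iota (c i)) = 0 := by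
      refine hind _ fun g => ?_
      obtain ⟨x, y, rfl, hxy, ⟨k, hx⟩, hy⟩ := exists_pPart (p := p) hp g
      have ht : ∀ i, (S i (x * y)).trace = hBv.iota (red M (φ i y)) := fun i => by
        rw [hred i y hy]
        have := CyclicRank.trace_eq_regular (p := p) (matRep (S i)) hxy hx
        rw [matRep_apply, matRep_apply, Matrix.trace_toLin'_eq, Matrix.trace_toLin'_eq] at this
        exact this
      simp only [ht, ← map_mul, ← map_sum]
      rw [show ∑ i, c i * red M (φ i y) = 0 by simpa using congrFun hc y, map_zero]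
    exact hBv.iota.injective (by rw [map_zero]; exact congrFun h0 i)
  have hli' : LinearIndependent ℂ φ := BlockAlg8.linearIndependent_of_red φ hloc hli
  -- decomposition numbers
  have hdec : ∀ χ : IrrCharacter G, ∃ m : Fin r → ℕ,
      pRegularPart p (χ : G → ℂ) = ∑ i, (m i : ℂ) • φ i ∧
      ∀ i, m i ≠ 0 → ∀ χ' : IrrCharacter G, (matRep (S i)).asAlgebraHom
          (∑ g, IsLocalRing.residue Bv ⟨blockCoeff (blockOf M (χ' : G → ℂ)) g,
            hBv.mem_of_memLocalRing ((isIntClassFun_blockCoeff hM
              (isPBlock_blockOf χ')).2 g)⟩ • MonoidAlgebra.of (Kf Bv) G g) =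
          if χ ∈ blockOf M (χ' : G → ℂ) then 1 else 0 := by
    intro χ
    obtain ⟨n, ρ, hρ, hχ⟩ := χ.2
    obtain ⟨b, R, hR⟩ := exists_form ρ Bv
    set Rb := matRep ((IsLocalRing.residue Bv).mapMatrix.toMonoidHom.comp R) with hRb
    obtain ⟨m, hm, hker⟩ := hall (Fin n → Kf Bv) Rb
    refine ⟨m, ?_, fun i hi χ' => ?_⟩
    · rw [← hm]
      funext x
      by_cases hx : p ∣ orderOf x
      · rw [pRegularPart_of_dvd _ hx, bchar_of_dvd _ hx]
      · rw [pRegularPart_of_not_dvd _ hx, bchar_reduction hp hR hx, hχ]
    set e := blockCoeff (blockOf M (χ' : G → ℂ)) with he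
    have heI := isIntClassFun_blockCoeff hM (isPBlock_blockOf (M := M) χ')
    set c : Kf Bv := if χ ∈ blockOf M (χ' : G → ℂ) then 1 else 0 with hc
    set ε : MonoidAlgebra (Kf Bv) G := ∑ g, IsLocalRing.residue Bv
      ⟨e g, hBv.mem_of_memLocalRing (heI.2 g)⟩ • MonoidAlgebra.of (Kf Bv) G g
    have hkey : Rb.asAlgebraHom ε = algebraMap (Kf Bv) _ c := by
      have hC : ∑ g, e g • ρ g = omega (χ : G → ℂ) e • (1 : Module.End ℂ (Fin n → ℂ)) := by
        rw [← hχ]
        exact sum_smul_eq_omega_smul ρ heI.1
      have hω : omega (χ : G → ℂ) e = if χ ∈ blockOf M (χ' : G → ℂ) then 1 else 0 := by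
        rw [he, omega_blockCoeff, Set.indicator_apply]
        rfl
      let ωv : Bv := if χ ∈ blockOf M (χ' : G → ℂ) then 1 else 0
      have hB : ∑ g, (⟨e g, hBv.mem_of_memLocalRing (heI.2 g)⟩ : Bv) • R g =
          ωv • (1 : Matrix (Fin n) (Fin n) Bv) := by
        ext s t
        have h := congrArg (fun f => LinearMap.toMatrix b b f s t) hC
        simp only [map_sum, map_smul, LinearMap.toMatrix_one, ← hR, hω, Matrix.sum_apply,
          Matrix.smul_apply, Matrix.map_apply, smul_eq_mul] at h
        rw [Matrix.sum_apply, AddSubmonoidClass.coe_finsetSum]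
        refine h.trans ?_
        simp only [ωv]
        split_ifs <;> simp [Matrix.one_apply] <;> split_ifs <;> simp
      have hB' := congrArg (fun A : Matrix (Fin n) (Fin n) Bv =>
        Matrix.toLinAlgEquiv' ((IsLocalRing.residue Bv).mapMatrix A)) hB
      rw [map_sum]
      simp only [map_smul, Representation.asAlgebraHom_of]
      have e1 : ∀ (z : Bv) (A : Matrix (Fin n) (Fin n) Bv),
          (IsLocalRing.residue Bv).mapMatrix (z • A) =
            IsLocalRing.residue Bv z • (IsLocalRing.residue Bv).mapMatrix A :=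
        fun z A => Matrix.ext fun s t => by simp
      simp only [map_sum, e1, map_smul, map_one] at hB'
      refine hB'.trans ?_
      rw [Algebra.algebraMap_eq_smul_one]
      congr 1
      simp only [ωv, hc]
      split_ifs <;> simp
    have h0 := hker i hi (ε - algebraMap _ _ c) (by
      rw [map_sub, AlgHom.commutes, hkey, sub_self])
    rw [map_sub, AlgHom.commutes, sub_eq_zero] at h0
    rw [h0, hc]
    split_ifs <;> simp
  choose dec hdec hblk using hdec
  have hcol : ∀ i, ∃ χ, dec χ i ≠ 0 := by
    intro i
    by_contra h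
    push Not at h
    obtain ⟨c, hc, -⟩ := exists_regular_expansion hM (f := φ i)
      (fun g x => bchar_conj _ x g) (fun x hx => bchar_of_dvd _ hx)
    have h1 : ∑ j, ((∑ χ, c χ * (dec χ j : ℂ)) - if j = i then 1 else 0) • φ j = 0 := by
      simp only [sub_smul, Finset.sum_sub_distrib, Finset.sum_smul, ite_smul, one_smul, zero_smul,
        Finset.sum_ite_eq', Finset.mem_univ, if_true]
      rw [sub_eq_zero, Finset.sum_comm]
      rw [hc]
      refine Finset.sum_congr rfl fun χ _ => ?_
      rw [hdec χ, Finset.smul_sum]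
      simp only [smul_smul]
    have h2 := Fintype.linearIndependent_iff.mp hli' _ h1 i
    simp [h] at h2
  choose χ₀ hχ₀ using hcol
  refine ⟨{ l := r, φ := φ, deg := d, dec := dec, blk := fun i => blockOf M (χ₀ i : G → ℂ),
            apply_singular := fun i x hx => bchar_of_dvd _ hx
            conj := fun i g x => bchar_conj _ x g
            isIntegral := hint
            deg_pos := hd
            apply_one := fun i => by simp [hφ, bchar_one hp]
            red_linearIndependent := hli
            regularPart_eq := hdec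
            blk_isPBlock := fun i => isPBlock_blockOf _
            mem_blk := fun χ i hi => ?_
            place := Bv
            isPlace := hBv
            rep := S
            φ_eq := fun i => rfl
            sum_deg_sq := fun hp' => hsq ?_
            combination := fun n ρ => (hall _ ρ).imp fun m hm => hm.1 }, rfl⟩
  rotate_left
  · have : NeZero (Nat.card G : Kf Bv) := ⟨fun h => hp' ((CharP.cast_eq_zero_iff (Kf Bv) p _).mp h)⟩
    exact IsSemisimpleRing.jacobson_eq_bot _
  have h1 := hblk (χ₀ i) i (hχ₀ i) (χ₀ i)
  have h2 := hblk χ i hi (χ₀ i)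
  rw [if_pos (mem_blockOf_self _), h2] at h1
  by_contra hne
  rw [if_neg hne] at h1
  have := congrArg (fun f : Module.End _ _ => f (Pi.single ⟨0, hd i⟩ 1) ⟨0, hd i⟩) h1
  simp at this

theorem exists_brauerData (hM : IsPModular p M) [M.IsPrime] :
    Nonempty (BrauerData p M G) := by
  have := hM.2.1
  obtain ⟨Bv, hBv⟩ := exists_isPlace M
  obtain ⟨D, -⟩ := exists_brauerData_of_place (G := G) hM hBv
  exact ⟨D⟩

end Cfsg.Agent.ModRep
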