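import Cfsg.Agent.Lib.BlocksDefect.Kulshammer
import Mathlib.RingTheory.Valuation.LocalSubring
import Mathlib.FieldTheory.IsAlgClosed.Basic
import Mathlib.LinearAlgebra.Matrix.Charpoly.Eigs
import Mathlib.LinearAlgebra.Eigenspace.Charpoly
import Mathlib.LinearAlgebra.Matrix.ToLin

/-!
# A place of `ℂ` over the modular ideal

A valuation subring of `ℂ` containing the algebraic integers with centre `M`; its residue field is
algebraically closed of characteristic `p`.  Representations over `ℂ` have forms over it, and roots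
of unity of order prime to `p` lift uniquely from its residue field.
-/

set_option autoImplicit false
set_option linter.unusedSectionVars false

namespace Cfsg.Agent.ModRep

open BlocksCore BlocksDefect Polynomial

/-- `Bv` is a place of `ℂ` over the maximal ideal `M` of the algebraic integers. -/
structure IsPlace (M : Ideal AlgInt) (Bv : ValuationSubring ℂ) : Prop where
  le : ∀ a : AlgInt, (a : ℂ) ∈ Bv
  mem : ∀ a : AlgInt, a ∈ M → (⟨(a : ℂ), le a⟩ : Bv) ∈ IsLocalRing.maximalIdeal Bv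

theorem exists_isPlace (M : Ideal AlgInt) [hM : M.IsMaximal] :
    ∃ Bv : ValuationSubring ℂ, IsPlace M Bv := by
  let A : Subring ℂ := (AlgInt).toSubring
  obtain ⟨Bv, hA, hB⟩ := Ideal.image_subset_nonunits_valuationSubring (A := A) M hM.ne_top
  refine ⟨Bv, fun a => hA a.2, fun a ha => ?_⟩
  have h := hB ⟨a, ha, rfl⟩
  rw [SetLike.mem_coe, ValuationSubring.mem_nonunits_iff_exists_mem_maximalIdeal] at h
  obtain ⟨_, h⟩ := h
  exact h

variable {Bv : ValuationSubring ℂ} {p : ℕ}

/-- The residue field of a valuation subring of `ℂ`. -/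
abbrev Kf (Bv : ValuationSubring ℂ) := IsLocalRing.ResidueField Bv

instance isAlgClosed_kf : IsAlgClosed (Kf Bv) := by
  refine IsAlgClosed.of_exists_root _ fun f hf hirr => ?_
  obtain ⟨g, hg, hdeg, hgm⟩ := lifts_and_degree_eq_and_monic
    ((map_surjective _ (IsLocalRing.residue_surjective (R := Bv)) f :
      f ∈ Polynomial.lifts (IsLocalRing.residue Bv))) hf
  obtain ⟨z, hz⟩ := IsAlgClosed.exists_root (g.map (algebraMap Bv ℂ)) (by
    rw [hgm.degree_map, hdeg]
    exact (degree_pos_of_irreducible hirr).ne')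
  have hint : IsIntegral Bv z := ⟨g, hgm, by rwa [IsRoot, eval_map] at hz⟩
  obtain ⟨b, hb⟩ := IsIntegrallyClosed.algebraMap_eq_of_integral hint
  refine ⟨IsLocalRing.residue Bv b, ?_⟩
  rw [← hg, eval_map_apply]
  have h0 : g.eval b = 0 := by
    apply IsFractionRing.injective Bv ℂ
    rw [map_zero, ← eval₂_at_apply, hb]
    rwa [IsRoot, eval_map] at hz
  rw [h0, map_zero]

variable {M : Ideal AlgInt}

theorem IsPlace.isUnit (h : IsPlace M Bv) [hM : M.IsMaximal] {b : AlgInt} (hb : b ∉ M) :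
    IsUnit (⟨(b : ℂ), h.le b⟩ : Bv) := by
  by_contra hu
  obtain ⟨c, m, hm, hcm⟩ := hM.exists_inv hb
  have h1 : (⟨(c : ℂ), h.le c⟩ : Bv) * ⟨(b : ℂ), h.le b⟩ ∈ IsLocalRing.maximalIdeal Bv :=
    Ideal.mul_mem_left _ _ ((IsLocalRing.mem_maximalIdeal _).mpr hu)
  have h2 := Ideal.add_mem _ h1 (h.mem m hm)
  have h3 : (⟨(c : ℂ), h.le c⟩ : Bv) * ⟨(b : ℂ), h.le b⟩ + ⟨(m : ℂ), h.le m⟩ = 1 :=
    Subtype.ext (by
      have := congrArg (fun t : AlgInt => (t : ℂ)) hcm
      simpa using this)
  rw [h3] at h2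
  exact (IsLocalRing.maximalIdeal.isMaximal Bv).ne_top ((Ideal.eq_top_iff_one _).mpr h2)

theorem IsPlace.mem_of_memLocalRing (h : IsPlace M Bv) [M.IsMaximal] {z : ℂ}
    (hz : MemLocalRing M z) : z ∈ Bv := by
  obtain ⟨a, b, hb, rfl⟩ := hz
  obtain ⟨u, hu⟩ := h.isUnit hb
  have hb' : (b : ℂ) * ((u⁻¹ : (Bv)ˣ) : Bv) = 1 := by
    have := congrArg (fun t : Bv => (t : ℂ)) u.mul_inv
    rw [hu] at this
    simpa using this
  rw [show (a : ℂ) / b = a * ((u⁻¹ : (Bv)ˣ) : Bv) by
    rw [div_eq_mul_inv, eq_inv_of_mul_eq_one_right hb']]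
  exact Bv.mul_mem _ _ (h.le a) ((u⁻¹ : (Bv)ˣ) : Bv).2

/-- The inclusion of the local ring at `M` into the place. -/
def IsPlace.incl (h : IsPlace M Bv) [M.IsMaximal] : localRing M →+* Bv where
  toFun z := ⟨(z : ℂ), h.mem_of_memLocalRing z.2⟩
  map_one' := rfl
  map_mul' _ _ := rfl
  map_zero' := rfl
  map_add' _ _ := rfl

theorem IsPlace.residue_incl_eq_zero (h : IsPlace M Bv) [M.IsMaximal] (z : localRing M)
    (hz : z ∈ localIdeal M) : IsLocalRing.residue Bv (h.incl z) = 0 := by
  obtain ⟨a, b, ha, hb, e⟩ := mem_localIdeal_iff.mp hz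
  obtain ⟨u, hu⟩ := h.isUnit hb
  have e' : h.incl z * u = ⟨(a : ℂ), h.le a⟩ := by
    rw [hu]
    refine Subtype.ext ?_
    show (z : ℂ) * (b : ℂ) = a
    rw [← e, div_mul_cancel₀ _ (coe_ne_zero_of_notMem hb)]
  have h1 := congrArg (IsLocalRing.residue Bv) e'
  rw [map_mul, (IsLocalRing.residue_eq_zero_iff _).mpr (h.mem a ha)] at h1
  exact (mul_eq_zero.mp h1).resolve_right (u.map (IsLocalRing.residue Bv).toMonoidHom).ne_zero

/-- The map from the residue field at `M` to the residue field of the place. -/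
noncomputable def IsPlace.iota (h : IsPlace M Bv) [M.IsMaximal] : Res M →+* Kf Bv :=
  Ideal.Quotient.lift (localIdeal M) ((IsLocalRing.residue Bv).comp h.incl)
    h.residue_incl_eq_zero

theorem IsPlace.iota_red (h : IsPlace M Bv) [M.IsMaximal] {z : ℂ} (hz : MemLocalRing M z) :
    h.iota (red M z) = IsLocalRing.residue Bv ⟨z, h.mem_of_memLocalRing hz⟩ := by
  rw [red_of_mem hz]
  rfl

theorem IsPlace.charP (h : IsPlace M Bv) (hM : IsPModular p M) : CharP (Kf Bv) p := by
  have := hM.2.1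
  refine (CharP.charP_iff_prime_eq_zero hM.1).mpr ?_
  have h1 := (IsLocalRing.residue_eq_zero_iff _).mpr (h.mem _ hM.2.2)
  rwa [show (⟨((p : AlgInt) : ℂ), h.le _⟩ : Bv) = (p : Bv) from Subtype.ext (by simp),
    map_natCast] at h1

/-! ### Lifting roots of unity -/

theorem mem_of_pow_eq_one {z : ℂ} {m : ℕ} (hm : 0 < m) (hz : z ^ m = 1) : z ∈ Bv := by
  rcases Bv.mem_or_inv_mem z with h | h
  · exact h
  · have e : z = z⁻¹ ^ (m - 1) := by
      have hz0 : z ≠ 0 := fun h0 => by rw [h0, zero_pow hm.ne'] at hz; exact zero_ne_one hz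
      rw [inv_pow]
      exact eq_inv_of_mul_eq_one_left (by rw [← pow_succ', Nat.sub_add_cancel hm, hz])
    rw [e]
    exact pow_mem h _

/-- A root of unity of order prime to `p` reducing to one is one. -/
theorem eq_one_of_residue [CharP (Kf Bv) p] {z : Bv} {m : ℕ} (hm : ¬ p ∣ m) (hz : z ^ m = 1)
    (h : IsLocalRing.residue Bv z = 1) : z = 1 := by
  by_contra hne
  have hs : ∑ i ∈ Finset.range m, z ^ i = 0 := by
    have := geom_sum_mul z m
    rw [hz, sub_self] at this
    exact (mul_eq_zero.mp this).resolve_right (sub_ne_zero.mpr hne)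
  have h1 := congrArg (IsLocalRing.residue Bv) hs
  simp only [map_sum, map_pow, h, one_pow, map_zero, Finset.sum_const, Finset.card_range,
    nsmul_one] at h1
  exact hm ((CharP.cast_eq_zero_iff (Kf Bv) p m).mp h1)

open scoped Classical in
/-- The lift of a root of unity of order prime to `p` in the residue field (zero otherwise). -/
noncomputable def lft (p : ℕ) (Bv : ValuationSubring ℂ) (u : Kf Bv) : ℂ :=
  if h : ∃ z : Bv, (∃ m : ℕ, ¬ p ∣ m ∧ z ^ m = 1) ∧ IsLocalRing.residue Bv z = u then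
    ((Classical.choose h : Bv) : ℂ) else 0

theorem lft_residue (hp : p.Prime) [CharP (Kf Bv) p] {z : Bv} {m : ℕ} (hm : ¬ p ∣ m)
    (hz : z ^ m = 1) : lft p Bv (IsLocalRing.residue Bv z) = (z : ℂ) := by
  have h : ∃ w : Bv, (∃ m : ℕ, ¬ p ∣ m ∧ w ^ m = 1) ∧
      IsLocalRing.residue Bv w = IsLocalRing.residue Bv z := ⟨z, ⟨m, hm, hz⟩, rfl⟩
  rw [lft, dif_pos h]
  obtain ⟨⟨n, hn, hw⟩, hr⟩ := Classical.choose_spec h
  set w := Classical.choose h
  congr 1
  have hnm : ¬ p ∣ n * m := fun hd => (hp.dvd_mul.mp hd).elim hn hm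
  have hm0 : m ≠ 0 := fun h0 => hm (h0 ▸ dvd_zero p)
  have hzinv : z * z ^ (m - 1) = 1 := by rw [← pow_succ', Nat.sub_add_cancel (by omega), hz]
  have h1 : w * z ^ (m - 1) = 1 := by
    refine eq_one_of_residue hnm ?_ ?_
    · rw [mul_pow, pow_mul, hw, one_pow, one_mul, ← pow_mul,
        show (m - 1) * (n * m) = m * ((m - 1) * n) by ring, pow_mul, hz, one_pow]
    · rw [map_mul, hr, ← map_mul, hzinv, map_one]
  calc w = w * (z * z ^ (m - 1)) := by rw [hzinv, mul_one]
    _ = z * (w * z ^ (m - 1)) := by ring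
    _ = z := by rw [h1, mul_one]

/-! ### Forms over the place -/

/-- A finitely spanned lattice in a complex space has a basis. -/
theorem exists_basis_lattice {n : ℕ} (s : Finset (Fin n → ℂ))
    (hs : Submodule.span ℂ (s : Set (Fin n → ℂ)) = ⊤) :
    ∃ b : Module.Basis (Fin n) ℂ (Fin n → ℂ), ∀ v ∈ s, ∀ i, b.repr v i ∈ Bv ∧
      ∀ i, b i ∈ Submodule.span Bv (s : Set (Fin n → ℂ)) := by
  classical
  obtain ⟨t, hts, hmin⟩ : ∃ t : Finset (Fin n → ℂ),
      (t : Set (Fin n → ℂ)) ⊆ Submodule.span Bv (s : Set (Fin n → ℂ)) ∧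
      ((s : Set (Fin n → ℂ)) ⊆ Submodule.span Bv (t : Set (Fin n → ℂ)) ∧
        ∀ t' : Finset (Fin n → ℂ), t' ⊂ t →
          ¬ (s : Set (Fin n → ℂ)) ⊆ Submodule.span Bv (t' : Set (Fin n → ℂ))) := by
    obtain ⟨t, ht, hm⟩ := Finset.exists_min_image (s.powerset.filter fun t : Finset (Fin n → ℂ) =>
      (s : Set (Fin n → ℂ)) ⊆ Submodule.span Bv (t : Set (Fin n → ℂ))) Finset.card
      ⟨s, by simp [Submodule.subset_span]⟩
    simp only [Finset.mem_filter, Finset.mem_powerset] at ht hm
    refine ⟨t, fun v hv => Submodule.subset_span (ht.1 hv), ht.2, fun t' ht' hc => ?_⟩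
    exact absurd (hm t' ⟨ht'.1.trans ht.1, hc⟩) (Finset.card_lt_card ht').not_ge
  have hli : LinearIndependent ℂ (fun x : ↥t => (x : Fin n → ℂ)) := by
    rw [Fintype.linearIndependent_iff]
    intro c hc
    by_contra h
    push Not at h
    obtain ⟨i, hi⟩ := h
    obtain ⟨j, -, hj⟩ := Finset.exists_max_image Finset.univ (fun u => Bv.valuation (c u))
      ⟨i, Finset.mem_univ _⟩
    have hj0 : c j ≠ 0 := fun h0 => by
      have := hj i (Finset.mem_univ _)
      rw [h0, map_zero, le_zero_iff] at this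
      exact hi ((map_eq_zero Bv.valuation).mp this)
    have hmem : ∀ u, c u / c j ∈ Bv := fun u => by
      rw [← Bv.valuation_le_one_iff, map_div₀,
        div_le_one₀ (zero_lt_iff.mpr ((_root_.map_ne_zero _).mpr hj0))]
      exact hj u (Finset.mem_univ _)
    have hjrel : (j : Fin n → ℂ) = -∑ u ∈ Finset.univ.erase j,
        (⟨c u / c j, hmem u⟩ : Bv) • (u : Fin n → ℂ) := by
      have h1 : (c j)⁻¹ • ∑ u, c u • (u : Fin n → ℂ) = 0 := by rw [hc, smul_zero]
      rw [← Finset.add_sum_erase _ _ (Finset.mem_univ j), smul_add, smul_smul,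
        inv_mul_cancel₀ hj0, one_smul, Finset.smul_sum, add_eq_zero_iff_eq_neg] at h1
      rw [h1]
      congr 1
      refine Finset.sum_congr rfl fun u _ => ?_
      rw [smul_smul]
      show _ = (c u / c j) • (u : Fin n → ℂ)
      rw [div_eq_mul_inv, mul_comm]
    refine hmin.2 (t.erase j) (Finset.erase_ssubset j.2) (hmin.1.trans ?_)
    rw [SetLike.coe_subset_coe, Submodule.span_le]
    intro v hv
    by_cases hvj : v = j
    · have hx : -∑ u ∈ Finset.univ.erase j, (⟨c u / c j, hmem u⟩ : Bv) • (u : Fin n → ℂ) ∈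
          Submodule.span Bv ((t.erase j : Finset (Fin n → ℂ)) : Set (Fin n → ℂ)) := by
        refine Submodule.neg_mem _ (Submodule.sum_mem _ fun u hu => Submodule.smul_mem _ _ ?_)
        refine Submodule.subset_span (Finset.mem_coe.mpr (Finset.mem_erase.mpr ⟨fun e => ?_, u.2⟩))
        exact (Finset.mem_erase.mp hu).1 (Subtype.ext e)
      rw [← hjrel] at hx
      rw [hvj]
      exact hx
    · exact Submodule.subset_span (Finset.mem_coe.mpr (Finset.mem_erase.mpr ⟨hvj, hv⟩))
  have hsp : ⊤ ≤ Submodule.span ℂ (Set.range (fun x : ↥t => (x : Fin n → ℂ))) := by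
    rw [show Set.range (fun x : ↥t => (x : Fin n → ℂ)) = (t : Set (Fin n → ℂ)) from Subtype.range_coe, ← hs]
    exact Submodule.span_le.mpr fun v hv =>
      Submodule.span_le_restrictScalars Bv ℂ _ (hmin.1 hv)
  let b₀ := Module.Basis.mk hli hsp
  have hcard : Fintype.card ↥t = n := by
    simpa using (Module.finrank_eq_card_basis b₀).symm
  let e : ↥t ≃ Fin n := Fintype.equivFinOfCardEq hcard
  refine ⟨b₀.reindex e, fun v hv i => ⟨?_, fun i => ?_⟩⟩
  · obtain ⟨N, f, g, hg⟩ := Submodule.mem_span_set'.mp (hmin.1 hv)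
    have hv' : v = ∑ k, ((f k : Bv) : ℂ) • b₀ (g k) := by
      rw [← hg]
      exact Finset.sum_congr rfl fun k _ => by rw [Module.Basis.mk_apply]; rfl
    rw [hv', map_sum, Finsupp.finsetSum_apply]
    refine sum_mem fun k _ => ?_
    rw [map_smul, Finsupp.smul_apply, Module.Basis.repr_reindex_apply, Module.Basis.repr_self,
      smul_eq_mul, Finsupp.single_apply]
    split_ifs
    · rw [mul_one]; exact (f k).2
    · rw [mul_zero]; exact Bv.zero_mem
  · rw [Module.Basis.reindex_apply, Module.Basis.mk_apply]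
    exact hts (e.symm i).2

variable {G : Type*} [Group G] [Finite G]

/-- Every complex representation has a form over the place. -/
theorem exists_form {n : ℕ} (ρ : Representation ℂ G (Fin n → ℂ)) (Bv : ValuationSubring ℂ) :
    ∃ (b : Module.Basis (Fin n) ℂ (Fin n → ℂ)) (R : G →* Matrix (Fin n) (Fin n) Bv),
      ∀ g, (R g).map Bv.subtype = LinearMap.toMatrix b b (ρ g) := by
  classical
  have := Fintype.ofFinite G
  let s : Finset (Fin n → ℂ) := Finset.univ.image fun x : G × Fin n => ρ x.1 (Pi.single x.2 1)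
  have hs : Submodule.span ℂ (s : Set (Fin n → ℂ)) = ⊤ := by
    rw [eq_top_iff, ← (Pi.basisFun ℂ (Fin n)).span_eq]
    refine Submodule.span_mono ?_
    rintro _ ⟨i, rfl⟩
    exact Finset.mem_coe.mpr (Finset.mem_image.mpr ⟨(1, i), Finset.mem_univ _, by simp⟩)
  obtain ⟨b, hb⟩ := exists_basis_lattice (Bv := Bv) s hs
  have hmem : ∀ g i j, LinearMap.toMatrix b b (ρ g) i j ∈ Bv := by
    intro g i j
    rw [LinearMap.toMatrix_apply]
    obtain ⟨v₀, hv₀⟩ : s.Nonempty := ⟨_, Finset.mem_image.mpr ⟨(1, j), Finset.mem_univ _, rfl⟩⟩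
    have hrepr : ∀ v ∈ Submodule.span Bv (s : Set (Fin n → ℂ)), ∀ i, b.repr v i ∈ Bv := by
      intro v hv
      induction hv using Submodule.span_induction with
      | mem v hv => exact fun i => (hb v hv i).1
      | zero => intro i; simp
      | add x y _ _ hx hy => intro i; simpa using Bv.add_mem _ _ (hx i) (hy i)
      | smul c x _ hx =>
        intro i
        rw [show c • x = (c : ℂ) • x from rfl]
        simpa using Bv.mul_mem _ _ c.2 (hx i)
    refine hrepr _ ?_ i
    have hg : ∀ v ∈ Submodule.span Bv (s : Set (Fin n → ℂ)),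
        ρ g v ∈ Submodule.span Bv (s : Set (Fin n → ℂ)) := by
      intro v hv
      induction hv using Submodule.span_induction with
      | mem v hv =>
        obtain ⟨⟨h, k⟩, -, rfl⟩ := Finset.mem_image.mp hv
        refine Submodule.subset_span (Finset.mem_coe.mpr (Finset.mem_image.mpr
          ⟨(g * h, k), Finset.mem_univ _, ?_⟩))
        simp
      | zero => simp
      | add x y _ _ hx hy => rw [map_add]; exact Submodule.add_mem _ hx hy
      | smul c x _ hx =>
        rw [show c • x = (c : ℂ) • x from rfl, map_smul]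
        exact Submodule.smul_mem _ c hx
    exact hg _ ((hb v₀ hv₀ j).2 j)
  let R₀ : G → Matrix (Fin n) (Fin n) Bv := fun g => Matrix.of fun i j => ⟨_, hmem g i j⟩
  have hR₀ : ∀ g, (R₀ g).map Bv.subtype = LinearMap.toMatrix b b (ρ g) := fun g => rfl
  have hinj : Function.Injective fun A : Matrix (Fin n) (Fin n) Bv => A.map Bv.subtype :=
    fun A C h => Matrix.ext fun i j => Subtype.ext (congrFun (congrFun h i) j)
  refine ⟨b, { toFun := R₀, map_one' := hinj ?_, map_mul' := fun g h => hinj ?_ }, hR₀⟩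
  · simp only [hR₀, map_one, LinearMap.toMatrix_one]
    exact (Matrix.map_one _ (map_zero _) (map_one _)).symm
  · simp only [hR₀, map_mul, LinearMap.toMatrix_mul, Matrix.map_mul]

/-- Roots of the characteristic polynomial of a matrix of finite order are roots of unity. -/
theorem pow_eq_one_of_mem_roots {K : Type*} [Field K] {n : ℕ} (A : Matrix (Fin n) (Fin n) K)
    {m : ℕ} (hA : A ^ m = 1) {z : K} (hz : z ∈ A.charpoly.roots) : z ^ m = 1 := by
  have h1 : Module.End.HasEigenvalue (Matrix.toLin' A) z := by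
    rw [Module.End.hasEigenvalue_iff_isRoot_charpoly, LinearMap.charpoly, ← LinearMap.charpoly_def,
      Matrix.charpoly_toLin']
    exact (mem_roots (Matrix.charpoly_monic A).ne_zero).mp hz
  obtain ⟨v, hv⟩ := h1.exists_hasEigenvector
  have h2 := hv.pow_apply m
  rw [← Matrix.toLin'_pow, hA, Matrix.toLin'_one, LinearMap.id_apply] at h2
  exact (smul_left_injective K hv.2 (h2.symm.trans (one_smul K v).symm))

end Cfsg.Agent.ModRep
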