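import Cfsg.Agent.Lib.ModRep.BrauerChar
import Cfsg.Agent.BlockAlg8.Algebra

/-!
# Simple modules of a finite dimensional algebra and composition factors
-/

set_option autoImplicit false
set_option linter.unusedSectionVars false

namespace Cfsg.Agent.ModRep

open MonoidAlgebra

universe u v

variable {G : Type u} [Group G] [Finite G] {Bv : ValuationSubring ℂ} {p : ℕ}

theorem asAlgebraHom_subRep {V : Type*} [AddCommGroup V] [Module (Kf Bv) V]
    [FiniteDimensional (Kf Bv) V] (ρ : Representation (Kf Bv) G V)
    (W : Submodule (Kf Bv) V) (hW : ∀ g, W ≤ W.comap (ρ g)) (a : MonoidAlgebra (Kf Bv) G) (w : W) :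
    ((subRep ρ W hW).asAlgebraHom a w : V) = ρ.asAlgebraHom a w := by
  induction a using MonoidAlgebra.induction_on with
  | of g => simp [subRep]
  | add x y hx hy => simp [hx, hy]
  | smul r x hx => simp [hx]

theorem asAlgebraHom_quotRep {V : Type*} [AddCommGroup V] [Module (Kf Bv) V]
    [FiniteDimensional (Kf Bv) V] (ρ : Representation (Kf Bv) G V)
    (W : Submodule (Kf Bv) V) (hW : ∀ g, W ≤ W.comap (ρ g)) (a : MonoidAlgebra (Kf Bv) G) (v : V) :
    (quotRep ρ W hW).asAlgebraHom a (W.mkQ v) = W.mkQ (ρ.asAlgebraHom a v) := by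
  induction a using MonoidAlgebra.induction_on with
  | of g => simp [quotRep]
  | add x y hx hy =>
    rw [map_add, map_add, LinearMap.add_apply, LinearMap.add_apply, hx, hy, map_add]
  | smul r x hx => rw [map_smul, map_smul, LinearMap.smul_apply, LinearMap.smul_apply, hx, map_smul]

/-- A family of representatives of the simple representations, as matrix representations,
with independent traces and all other representations composed of them. -/
theorem exists_simples (G : Type u) [Group G] [Finite G] (Bv : ValuationSubring ℂ) (p : ℕ) :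
    ∃ (r : ℕ) (d : Fin r → ℕ) (S : ∀ i, G →* Matrix (Fin (d i)) (Fin (d i)) (Kf Bv)),
      (∀ i, 0 < d i) ∧
      (Ring.jacobson (MonoidAlgebra (Kf Bv) G) = ⊥ → ∑ i, d i ^ 2 = Nat.card G) ∧
      (∀ c : Fin r → Kf Bv, (∀ g, ∑ i, c i * (S i g).trace = 0) → c = 0) ∧
      ∀ (V : Type v) [AddCommGroup V] [Module (Kf Bv) V] [FiniteDimensional (Kf Bv) V]
        (ρ : Representation (Kf Bv) G V), ∃ m : Fin r → ℕ,
          bchar p ρ = ∑ i, (m i : ℂ) • bchar p (matRep (S i)) ∧
          ∀ i, m i ≠ 0 → ∀ a, ρ.asAlgebraHom a = 0 → (matRep (S i)).asAlgebraHom a = 0 := by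
  classical
  have := Fintype.ofFinite G
  let k := Kf Bv
  let A := MonoidAlgebra k G
  have : FiniteDimensional k A := Module.Finite.of_basis (MonoidAlgebra.basis G k)
  have : IsArtinianRing A := IsArtinianRing.of_finite k A
  obtain ⟨r, d, π, hd, hπs, hπk⟩ := BlockAlg8.exists_pi (K := k) (A := A)
  let S : ∀ i, G →* Matrix (Fin (d i)) (Fin (d i)) k := fun i =>
    ((Pi.evalAlgHom k _ i).comp π).toMonoidHom.comp (of k G)
  have hS : ∀ i (a : A), (matRep (S i)).asAlgebraHom a = Matrix.toLinAlgEquiv' (π a i) := by
    intro i a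
    induction a using MonoidAlgebra.induction_on with
    | of g =>
      rw [Representation.asAlgebraHom_of]
      rfl
    | add x y hx hy => simp [hx, hy]
    | smul c x hx => simp [hx]
  choose a ha using fun (i : Fin r) (j l : Fin (d i)) =>
    hπs (Pi.single i (Matrix.single j l 1))
  refine ⟨r, d, S, fun i => Nat.pos_of_ne_zero (hd i).out, fun hJ => ?_,
    fun c hc => funext fun i => ?_, ?_⟩
  · have hb : Function.Bijective π := ⟨(injective_iff_map_eq_zero π).mpr fun x hx => by
      have := (hπk x).mp hx
      rwa [hJ, Ideal.mem_bot] at this, hπs⟩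
    have := (LinearEquiv.ofBijective π.toLinearMap hb).finrank_eq
    rw [Module.finrank_eq_card_basis (MonoidAlgebra.basis G k), Module.finrank_pi_fintype] at this
    simp only [Module.finrank_matrix, Fintype.card_fin, Module.finrank_self, mul_one] at this
    rw [Nat.card_eq_fintype_card, this]
    simp only [sq]
  · have := hd i
    have hall : ∀ x : A, ∑ j, c j * (π x j).trace = 0 := by
      intro x
      induction x using MonoidAlgebra.induction_on with
      | of g => exact hc g
      | add x y hx hy => simp [mul_add, Finset.sum_add_distrib, hx, hy]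
      | smul e x hx =>
        simp only [map_smul, Pi.smul_apply, Matrix.trace_smul, smul_eq_mul]
        rw [Finset.sum_congr rfl fun j _ => mul_left_comm (c j) e _, ← Finset.mul_sum, hx, mul_zero]
    have h := hall (a i 0 0)
    rw [ha, Fintype.sum_eq_single i] at h
    · simpa using h
    · intro j hj; simp [Pi.single_eq_of_ne hj]
  intro V _ _ _ ρ
  suffices H : ∀ (N : ℕ) (V : Type v) [AddCommGroup V] [Module k V] [FiniteDimensional k V]
      (ρ : Representation k G V), Module.finrank k V ≤ N → ∃ m : Fin r → ℕ,
          bchar p ρ = ∑ i, (m i : ℂ) • bchar p (matRep (S i)) ∧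
          ∀ i, m i ≠ 0 → ∀ a, ρ.asAlgebraHom a = 0 → (matRep (S i)).asAlgebraHom a = 0 from
    H _ V ρ le_rfl
  intro N
  induction N with
  | zero =>
    intro V _ _ _ ρ hV
    have : Subsingleton V := Module.finrank_zero_iff.mp (Nat.le_zero.mp hV)
    exact ⟨0, by simp [bchar_subsingleton], fun i h => absurd rfl h⟩
  | succ N ih =>
    intro V _ _ _ ρ hV
    by_cases hsplit : ∃ W : Submodule k V, (∀ g, W ≤ W.comap (ρ g)) ∧ W ≠ ⊥ ∧ W ≠ ⊤
    · obtain ⟨W, hW, h0, h1⟩ := hsplit
      have hWl := Submodule.finrank_lt h1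
      have hWp : 0 < Module.finrank k W :=
        Nat.pos_of_ne_zero fun h => h0 (Submodule.finrank_eq_zero.mp h)
      have hq := W.finrank_quotient_add_finrank
      obtain ⟨m₁, e₁, n₁⟩ := ih W (subRep ρ W hW) (by omega)
      obtain ⟨m₂, e₂, n₂⟩ := ih (V ⧸ W) (quotRep ρ W hW) (by omega)
      refine ⟨m₁ + m₂, ?_, fun i hi a ha => ?_⟩
      · rw [bchar_eq_add ρ W hW, e₁, e₂, ← Finset.sum_add_distrib]
        exact Finset.sum_congr rfl fun i _ => by rw [Pi.add_apply, Nat.cast_add, add_smul]
      · by_cases h : m₁ i = 0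
        · refine n₂ i (fun h' => hi (by simp [h, h'])) a (LinearMap.ext fun v => ?_)
          obtain ⟨w, rfl⟩ := W.mkQ_surjective v
          rw [asAlgebraHom_quotRep, ha]
          simp
        · exact n₁ i h a (LinearMap.ext fun w => Subtype.ext (by
            rw [asAlgebraHom_subRep, ha]
            rfl))
    push Not at hsplit
    cases subsingleton_or_nontrivial V with
    | inl h => exact ⟨0, by simp [bchar_subsingleton], fun i h => absurd rfl h⟩
    | inr hnt =>
    set φ := ρ.asAlgebraHom
    have hφg : ∀ g, φ (of k G g) = ρ g := fun g => Representation.asAlgebraHom_of ρ g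
    have horbit : ∀ w : V, w ≠ 0 → ∀ v, ∃ x, φ x w = v := by
      intro w hw v
      let O : Submodule k V := LinearMap.range ((LinearMap.applyₗ w).comp φ.toLinearMap)
      have hO : ∀ g, O ≤ O.comap (ρ g) := by
        rintro g _ ⟨x, rfl⟩
        exact ⟨of k G g * x, by
          show φ (of k G g * x) w = ρ g (φ x w)
          rw [map_mul, hφg]
          rfl⟩
      have htop : O = ⊤ := hsplit O hO fun h => hw
        ((Submodule.eq_bot_iff O).mp h _ ⟨1, by simp [O]⟩)
      obtain ⟨x, hx⟩ : v ∈ O := htop ▸ Submodule.mem_top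
      exact ⟨x, hx⟩
    obtain ⟨NJ, hNJ⟩ := BlockAlg8.exists_jacobson_pow (A := A)
    have hJ : ∀ z ∈ Ring.jacobson A, φ z = 0 := by
      intro z hz
      refine LinearMap.ext fun v => ?_
      by_contra hne
      obtain ⟨x, hx⟩ := horbit _ hne v
      have hmem : x * z ∈ Ring.jacobson A := (Ring.jacobson A).mul_mem_left _ hz
      have hfix : ∀ n, φ ((x * z) ^ n) v = v := fun n => by
        induction n with
        | zero => simp
        | succ n ih =>
          rw [pow_succ, map_mul, Module.End.mul_apply, map_mul, Module.End.mul_apply, hx, ih]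
      have h0 : (x * z) ^ NJ = 0 := by
        have h := Ideal.pow_mem_pow hmem NJ
        rwa [hNJ, Ideal.mem_bot] at h
      have := hfix NJ
      rw [h0, map_zero, LinearMap.zero_apply] at this
      exact hne (by simp [← this])
    have hcong : ∀ x y : A, π x = π y → φ x = φ y := fun x y h => by
      have := hJ (x - y) ((hπk _).mp (by rw [map_sub, h, sub_self]))
      rwa [map_sub, sub_eq_zero] at this
    obtain ⟨i, hi⟩ : ∃ i, ∃ v, ∀ h : 0 < d i, φ (a i ⟨0, h⟩ ⟨0, h⟩) v ≠ 0 := by
      by_contra hall
      push Not at hall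
      have hz : ∀ i (h : 0 < d i), φ (a i ⟨0, h⟩ ⟨0, h⟩) = 0 := fun i h =>
        LinearMap.ext fun v => (hall i v).2
      have h1 : φ 1 = ∑ i, ∑ j, φ (a i j ⟨0, Nat.pos_of_ne_zero (hd i).out⟩ *
          a i ⟨0, Nat.pos_of_ne_zero (hd i).out⟩ ⟨0, Nat.pos_of_ne_zero (hd i).out⟩ *
          a i ⟨0, Nat.pos_of_ne_zero (hd i).out⟩ j) := by
        simp only [← map_sum]
        refine hcong _ _ ?_
        simp only [map_one, map_sum, map_mul, ha, ← Pi.single_mul, Matrix.single_mul_single_same,
          one_mul]
        rw [← Finset.univ_sum_single (1 : (i : Fin r) → Matrix (Fin (d i)) (Fin (d i)) k)]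
        refine Finset.sum_congr rfl fun i _ => ?_
        rw [← AddMonoidHom.single_apply, ← Finset.sum_congr rfl fun _ _ => AddMonoidHom.single_apply ..,
          ← map_sum]
        congr 1
        ext x y
        simp [Matrix.sum_apply, Matrix.single_apply, Matrix.one_apply, ite_and, eq_comm]
      simp only [map_mul, hz, mul_zero, zero_mul, Finset.sum_const_zero, map_one] at h1
      obtain ⟨v, hv⟩ := exists_ne (0 : V)
      exact hv (by simpa using congrArg (fun f : Module.End k V => f v) h1)
    have := hd i
    obtain ⟨v, hv⟩ := hi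
    have hd0 : 0 < d i := Nat.pos_of_ne_zero (hd i).out
    set z0 : Fin (d i) := ⟨0, hd0⟩
    set w := φ (a i z0 z0) v
    have hw : w ≠ 0 := hv hd0
    let T : (Fin (d i) → k) →ₗ[k] V := Fintype.linearCombination k fun j => φ (a i j z0) w
    have hT : ∀ c, T c = ∑ j, c j • φ (a i j z0) w := fun c => rfl
    have hw' : φ (a i z0 z0) w = w := by
      show φ (a i z0 z0) (φ (a i z0 z0) v) = φ (a i z0 z0) v
      rw [← Module.End.mul_apply, ← map_mul,
        hcong _ (a i z0 z0) (by simp [ha, ← Pi.single_mul])]
    have heq : ∀ (x : A) c, T (Matrix.toLinAlgEquiv' (π x i) c) = φ x (T c) := by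
      intro x c
      have hkey : ∀ j, φ x (φ (a i j z0) w) = ∑ l, π x i l j • φ (a i l z0) w := by
        intro j
        rw [← Module.End.mul_apply, ← map_mul, hcong _ (∑ l, π x i l j • a i l z0) ?_]
        · simp only [map_sum, map_smul, LinearMap.sum_apply, LinearMap.smul_apply]
        · funext i'
          simp only [map_mul, map_sum, map_smul, Finset.sum_apply, Pi.smul_apply, Pi.mul_apply, ha]
          by_cases hi' : i' = i
          · subst hi'
            simp only [Pi.single_eq_same]
            ext s t
            simp [Matrix.mul_apply, Matrix.sum_apply, Matrix.single_apply, ite_and]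
          · simp [Pi.single_eq_of_ne hi']
      simp only [hT, map_sum, map_smul, hkey, Matrix.toLinAlgEquiv'_apply, Matrix.mulVec,
        dotProduct, Finset.smul_sum, Finset.sum_smul, smul_smul]
      rw [Finset.sum_comm]
      exact Finset.sum_congr rfl fun j _ => Finset.sum_congr rfl fun l _ => by rw [mul_comm]
    have hinj : Function.Injective T := by
      rw [injective_iff_map_eq_zero]
      intro c hc
      funext j
      have h := congrArg (φ (a i z0 j)) hc
      rw [← heq, ha, Pi.single_eq_same, hT, map_zero] at h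
      simp [Matrix.toLinAlgEquiv'_apply, Matrix.mulVec, dotProduct, Matrix.single_apply,
        ite_and] at h
      exact h.resolve_right (by rw [hw']; exact hw)
    have hsurj : Function.Surjective T := by
      intro u
      obtain ⟨x, hx⟩ := horbit w hw u
      refine ⟨Matrix.toLinAlgEquiv' (π x i) (Pi.single z0 1), ?_⟩
      rw [heq, hT, Fintype.sum_eq_single z0 (fun j hj => by simp [Pi.single_eq_of_ne hj]),
        Pi.single_eq_same, one_smul, hw', hx]
    let e := LinearEquiv.ofBijective T ⟨hinj, hsurj⟩
    refine ⟨Pi.single i 1, ?_, fun i' hi' x hx => ?_⟩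
    · rw [Fintype.sum_eq_single i (fun j hj => by simp [Pi.single_eq_of_ne hj]), Pi.single_eq_same,
        Nat.cast_one, one_smul]
      refine (bchar_equiv e fun g c => ?_).symm
      show T (matRep (S i) g c) = ρ g (T c)
      rw [← hφg, ← heq]
      rfl
    · obtain rfl : i' = i := by
        by_contra h
        exact hi' (Pi.single_eq_of_ne h 1)
      refine LinearMap.ext fun c => hinj ?_
      rw [hS, heq, hx]
      simp

end Cfsg.Agent.ModRep
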