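import Cfsg.Agent.Lib.ModRep.Integral

/-!
# Brauer characters under an automorphism

The pairing over the `p`-regular elements of a union of blocks with its twist by an automorphism
is the group order times a natural number.
-/

set_option autoImplicit false
set_option linter.unusedSectionVars false

namespace Cfsg.Agent.ModRep

open BlocksCore BlocksDefect

variable {G : Type*} [Group G] [Finite G] {p : ℕ} {M : Ideal AlgInt} [M.IsPrime]

namespace BrauerData

variable (D : BrauerData p M G)

theorem pair_symm (i j : Fin D.l) : D.pair i j = D.pair j i := by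
  have := Fintype.ofFinite G
  simp only [pair, finsum_eq_sum_of_fintype]
  congr 1
  exact Fintype.sum_equiv (Equiv.inv G) _ _ fun x => by simp [mul_comm]

theorem pair_mul_cartan (hM : IsPModular p M) [Fintype (IrrCharacter G)] (i k : Fin D.l) :
    ∑ j, (D.cartan i j : ℂ) * D.pair k j = if i = k then 1 else 0 := by
  rw [← D.cartan_mul_pair hM i k]
  exact Finset.sum_congr rfl fun j _ => by rw [pair_symm]

theorem exists_twist (c : G ≃* G) (i : Fin D.l) :
    ∃ m : Fin D.l → ℕ, ∀ x, D.φ i (c x) = ∑ j, (m j : ℂ) * D.φ j x := by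
  obtain ⟨m, hm⟩ := D.combination _ ((matRep (D.rep i)).comp c.toMonoidHom)
  refine ⟨m, fun x => ?_⟩
  have h1 := bchar_comp (p := p) (matRep (D.rep i)) c.toMonoidHom c.injective x
  rw [← D.φ_eq, hm] at h1
  simpa using h1.symm

include D in
open scoped Classical in
theorem exists_twisted_pairing (hM : IsPModular p M) [Fintype G] [Fintype (IrrCharacter G)]
    (A : Set (IrrCharacter G)) (hA : ∀ θ ∈ A, blockOf M (θ : G → ℂ) ⊆ A) (c : G ≃* G) :
    ∃ n : ℕ, ∑ y ∈ Finset.univ.filter (fun y : G => ¬ p ∣ orderOf y),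
      ∑ θ ∈ Finset.univ.filter (· ∈ A), ((θ : IrrCharacter G) : G → ℂ) (c y) * (θ : G → ℂ) y⁻¹ =
        (Nat.card G : ℂ) * n := by
  choose m hm using D.exists_twist c
  refine ⟨∑ i ∈ Finset.univ.filter (fun i => D.blk i ⊆ A), m i i, ?_⟩
  have hG : (Nat.card G : ℂ) ≠ 0 := Nat.cast_ne_zero.mpr Nat.card_pos.ne'
  have hcart : ∀ i j, (∑ θ ∈ Finset.univ.filter (· ∈ A), (D.dec θ i : ℂ) * (D.dec θ j : ℂ)) =
      if D.blk i ⊆ A then (D.cartan i j : ℂ) else 0 := by
    intro i j
    split_ifs with hi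
    · rw [cartan_eq, Nat.cast_sum, Finset.sum_filter]
      refine Finset.sum_congr rfl fun θ _ => ?_
      split_ifs with hθ
      · rw [Nat.cast_mul]
      · by_cases hd : D.dec θ i = 0
        · simp [hd]
        · exact absurd (hi (D.mem_blk θ i hd)) hθ
    · refine Finset.sum_eq_zero fun θ hθ => ?_
      by_cases hd : D.dec θ i = 0
      · simp [hd]
      · refine absurd ?_ hi
        rw [D.blk_eq_of_dec hd (isPBlock_blockOf θ) (mem_blockOf_self θ)]
        exact hA θ (Finset.mem_filter.mp hθ).2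
  have e : ∀ y, ¬ p ∣ orderOf y →
      ∑ θ ∈ Finset.univ.filter (· ∈ A), ((θ : IrrCharacter G) : G → ℂ) (c y) * (θ : G → ℂ) y⁻¹ =
        ∑ i, ∑ j, (if D.blk i ⊆ A then (D.cartan i j : ℂ) else 0) *
          (D.φ i (c y) * D.φ j y⁻¹) := by
    intro y hy
    simp only [D.apply_regular _ (show ¬ p ∣ orderOf (c y) by rwa [MulEquiv.orderOf_eq]),
      D.apply_regular _ (show ¬ p ∣ orderOf y⁻¹ by rwa [orderOf_inv]), ← hcart,
      Finset.sum_mul, Finset.mul_sum]
    rw [Finset.sum_comm, Finset.sum_congr rfl fun i _ => Finset.sum_comm, Finset.sum_comm]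
    refine Finset.sum_congr rfl fun i _ => ?_
    exact Finset.sum_congr rfl fun j _ => Finset.sum_congr rfl fun θ _ => by ring
  have hq : ∀ i j, ∑ y ∈ Finset.univ.filter (fun y : G => ¬ p ∣ orderOf y),
      D.φ i (c y) * D.φ j y⁻¹ = (Nat.card G : ℂ) * ∑ k, (m i k : ℂ) * D.pair k j := by
    intro i j
    rw [Finset.sum_filter_of_ne (p := fun y : G => ¬ p ∣ orderOf y) (fun y _ h hy => h (by
      rw [D.apply_singular j y⁻¹ (by rwa [orderOf_inv]), mul_zero]))]
    simp only [hm, pair, finsum_eq_sum_of_fintype, Finset.sum_mul, Finset.mul_sum]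
    rw [Finset.sum_comm]
    refine Finset.sum_congr rfl fun k _ => Finset.sum_congr rfl fun y _ => ?_
    field_simp
  rw [Finset.sum_congr rfl fun y hy => e y (Finset.mem_filter.mp hy).2, Finset.sum_comm,
    Nat.cast_sum, Finset.sum_filter (s := Finset.univ) (fun i => D.blk i ⊆ A), Finset.mul_sum]
  refine Finset.sum_congr rfl fun i _ => ?_
  rw [Finset.sum_comm]
  split_ifs with hi
  · simp only [← Finset.mul_sum, hq]
    calc ∑ j, (D.cartan i j : ℂ) * ((Nat.card G : ℂ) * ∑ k, (m i k : ℂ) * D.pair k j)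
        = (Nat.card G : ℂ) * ∑ k, (m i k : ℂ) * ∑ j, (D.cartan i j : ℂ) * D.pair k j := by
          simp only [Finset.mul_sum]
          rw [Finset.sum_comm]
          exact Finset.sum_congr rfl fun k _ => Finset.sum_congr rfl fun j _ => by ring
      _ = _ := by simp [D.pair_mul_cartan hM]
  · simp

end BrauerData

end Cfsg.Agent.ModRep
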